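/-
Enumerated facts on the holomorph model.
-/
import Cfsg.Agent.SZ.QD

set_option autoImplicit false
set_option maxRecDepth 100000
set_option synthInstance.maxSize 4000

namespace Cfsg.Agent.SZ

open HJ HX Subgroup

section
variable {G : Type*} [Group G] {gs : List G}

theorem leQ (h : Sat cQ.RL gs) (hn : gs.length = 7 := by rfl) : Le (clo gs) 128 :=
  cQ.le hn h (le_triv rfl) le_bot

theorem leH (h : Sat cH.RL gs) (hn : gs.length = 10 := by rfl) : Le (clo gs) 7680 :=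
  cH.le hn h (base_sel gs [7, 8, 9])
    (cA5.le rfl (h.ren [7, 8, 9] (by decide)) (le_triv rfl) le_bot)

theorem leU (h : Sat cU.RL gs) (hn : gs.length = 6 := by rfl) : Le (clo gs) 64 :=
  cU.le hn h (le_triv rfl) le_bot

theorem leT (h : Sat cT5.RL gs) (hn : gs.length = 5 := by rfl) : Le (clo gs) 120960 :=
  cT5.le hn h (base_sel gs [0, 1, 2, 3]) (cT4.le rfl (h.ren [0, 1, 2, 3] (by decide))
    (base_sel _ [0, 1, 2]) (cT3.le rfl ((h.ren [0, 1, 2, 3] (RL' := cT4.RL) (by decide)).ren [0, 1, 2]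
      (by decide)) (le_triv rfl) le_bot))

theorem cover1 {P : TP} {K : Subgroup G} {T cnt : ℕ} (hn : gs.length = P.n)
    (h : St P (atm gs) K T cnt) (hf : P.fin T cnt [0] = true) : clo gs ≤ K := fun x hx => by
  obtain ⟨rep, h1⟩ := h.cover hn hf
  simp only [List.mem_singleton, exists_eq_left] at h1
  simpa using mul_mem (h1 x hx) (inv_mem (h1 1 (one_mem _)))

end

theorem satH : Sat cH.RL gH := by decide +kernel
theorem satQ : Sat cQ.RL gQ := satH.ren (List.range 7) (by decide)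

/-- centralising the generators -/
def CQ (t : ΓQ) : Prop := ∀ w ∈ gQ, t * w = w * t
noncomputable instance (t : ΓQ) : Decidable (CQ t) := by unfold CQ; infer_instance

/-- compatible actions -/
def Cp (γ : ΓV) (t : ΓQ) : Prop := t * z0 * t⁻¹ = z0 ∧ ∀ i < 6,
  ∃ b, t * gQ.getD i 1 * t⁻¹ = ev (atm gQ) (wd (γ.ap (2 ^ i))) * ez z0 b
noncomputable instance (γ : ΓV) (t : ΓQ) : Decidable (Cp γ t) := by unfold Cp; infer_instance

theorem fC : Cp env e0 ∧ Cp dv d0 ∧ Cp yv y0 ∧ Cp kv k0 ∧ Cp rv r0 ∧ Cp sv s0 ∧ Cp h1v h10 ∧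
    Cp h2v h20 := by decide +kernel

theorem cd_wd : ∀ m < 64, ∀ b, (ev (atm gQ) (wd m) * ez z0 b).ap 0 % 64 = m := by decide +kernel

noncomputable abbrev V0 : List ΓQ := [1, z0, f0, z0 * f0]

def PQ (u : ΓQ) : Prop :=
  (u = 1 ∨ u = z0 ∨ ∃ w ∈ gQ, u * w * u⁻¹ * w⁻¹ = z0) ∧
  (x0 * u = u * x0 → u ∈ W8.map (ev (atm [f0, g0])) ∧ (u * f0 = f0 * u → u ∈ V0)) ∧
  (e0 * u * (e0 * u) = 1 → ((e0 * u * x0) ^ 3 = 1 → u = 1) ∧ ∃ m < 64,
    ev (atm gQ) (wd m) * (e0 * u) * (ev (atm gQ) (wd m))⁻¹ ∈ [e0 * z0, e0 * f0, e0 * g0]) ∧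
  (u * e0 = e0 * u → u * y0 = y0 * u → u ∈ W16.map (ev (atm [z0, c0, f0, g0])) ∧
    (u * f0 = f0 * u → u ∈ V0 ∨ c0 * u ∈ V0)) ∧
  (r0 * u * r0⁻¹ * u = 1 → u ∈ Wzcf.map (ev (atm [z0, c0, f0]))) ∧
  (u * f0 = f0 * u → u * g0 = g0 * u → u * c0 = c0 * u → u * (d0 * c0 * d0) = d0 * c0 * d0 * u →
    u = 1 ∨ u = z0 ∨ u * u = z0)

noncomputable instance : DecidablePred PQ := fun _ => by unfold PQ; infer_instance

theorem PQ_all : PC.allL (fun x => decide (PQ x)) chQ 1 = true := by decide +kernel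

theorem fQ : ∀ u ∈ clo gQ, PQ u :=
  (PC.Enum.of chQ_ok chQ_mem ((leQ satQ).2.trans chQ_len.ge)).all PQ_all

def PH (x : ΓQ) : Prop := (∀ w ∈ gQ, x.ap (w.ap 0) = w.ap (x.ap 0)) → x = 1 ∨ x = z0

noncomputable instance : DecidablePred PH := fun _ => by unfold PH; infer_instance

theorem PH_all : PC.allL (fun x => decide (PH x)) chH 1 = true := by decide +kernel

theorem fH : ∀ x ∈ clo gH, CQ x → x = 1 ∨ x = z0 := fun x hx h =>
  (PC.Enum.of chH_ok chH_mem ((leH satH).2.trans chH_len.ge)).all PH_all x hx fun w hw => by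
    rw [← PC.ap_mul _ _ (by omega), h w hw, PC.ap_mul _ _ (by omega)]

end Cfsg.Agent.SZ
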