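/-
The orthogonal group `Ω₆⁻(2)` on 64 vectors: forms, isometries and enumerated facts.
-/
import Cfsg.Agent.SZ.VD

set_option autoImplicit false
set_option maxRecDepth 100000
set_option synthInstance.maxSize 4000

namespace Cfsg.Agent.SZ

open HJ HX Subgroup

/-- the alternating form -/
noncomputable def bS (m n : ℕ) : Bool := (lin rows m).testBit n
/-- the quadratic form with prescribed values on the basis -/
noncomputable def kS (ks m : ℕ) : Bool := (K0 ^^^ lin dot ks).testBit m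

theorem bS_xor (m m' n : ℕ) : bS (m ^^^ m') n = (bS m n ^^ bS m' n) := by
  simp only [bS, lin_xor, Nat.testBit_xor]

theorem bS_zero (n : ℕ) : bS 0 n = false := by simp [bS, lin_zero]

theorem bS_symm : ∀ m < 64, ∀ n < 64, bS m n = bS n m := by decide +kernel

theorem kS_xor : ∀ ks < 64, ∀ m < 64, ∀ n < 64,
    kS ks (m ^^^ n) = (kS ks m ^^ kS ks n ^^ bS m n) := by decide +kernel

theorem fS : (∀ ks < 64, kS ks 0 = false ∧ ∀ i < 6, kS ks (2 ^ i) = ks.testBit i) ∧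
    (∀ m < 64, (∀ i < 6, bS m (2 ^ i) = false) → m = 0) ∧
    (∀ b0 b1 b2 b3 b4 b5 : Bool, ∃ m < 64, bS m 1 = b0 ∧ bS m 2 = b1 ∧ bS m 4 = b2 ∧ bS m 8 = b3 ∧
      bS m 16 = b4 ∧ bS m 32 = b5) ∧
    (∀ b0 b1 b2 b3 b4 b5 : Bool, ∃ m < 64, m.testBit 0 = b0 ∧ m.testBit 1 = b1 ∧ m.testBit 2 = b2 ∧
      m.testBit 3 = b3 ∧ m.testBit 4 = b4 ∧ m.testBit 5 = b5) ∧
    ∀ ks < 64, ∃ t ∈ [0, 4], ∀ i < 6, (tab.getD ks []).getD i 0 < 64 ∧
      kS ks ((tab.getD ks []).getD i 0) = t.testBit i ∧ ∀ j < 6,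
        bS ((tab.getD ks []).getD i 0) ((tab.getD ks []).getD j 0) = bS (2 ^ i) (2 ^ j) := by
  decide +kernel

theorem ap_inv_ap {w n : ℕ} [Fact (n ≤ 2 ^ w)] (x : PC w n) {i : ℕ} (hi : i < n) :
    x⁻¹.ap (x.ap i) = i := by rw [← PC.ap_mul _ _ hi, inv_mul_cancel, PC.ap_one hi]

theorem ap_ap_inv {w n : ℕ} [Fact (n ≤ 2 ^ w)] (x : PC w n) {i : ℕ} (hi : i < n) :
    x.ap (x⁻¹.ap i) = i := by rw [← PC.ap_mul _ _ hi, mul_inv_cancel, PC.ap_one hi]

theorem ext_ap {w n : ℕ} [Fact (n ≤ 2 ^ w)] {x y : PC w n} (h : ∀ i < n, x.ap i = y.ap i) : x = y := by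
  obtain ⟨x, rfl⟩ := PC.ofPerm_surj x
  obtain ⟨y, rfl⟩ := PC.ofPerm_surj y
  congr 1
  ext i
  rw [← pv_coe, ← pv_coe, ← PC.ap_ofPerm (w := w) x i.2, ← PC.ap_ofPerm (w := w) y i.2, h i i.2]

theorem xor64 {m n : ℕ} (hm : m < 64) (hn : n < 64) : m ^^^ n < 64 :=
  Nat.xor_lt_two_pow (n := 6) hm hn

theorem pow64 {i : ℕ} (hi : i < 6) : 2 ^ i < 64 := Nat.pow_lt_pow_right (a := 2) (n := 6) (by omega) hi

/-- the isometry group -/
def Iso (ks : ℕ) : Subgroup ΓV where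
  carrier := {x | ∀ m < 64, kS ks (x.ap m) = kS ks m ∧ ∀ n < 64, x.ap (m ^^^ n) = x.ap m ^^^ x.ap n}
  one_mem' := fun m hm => ⟨by rw [PC.ap_one hm], fun n hn => by
    rw [PC.ap_one hm, PC.ap_one hn, PC.ap_one (xor64 hm hn)]⟩
  mul_mem' := fun {a b} ha hb m hm => ⟨by rw [PC.ap_mul _ _ hm, (ha _ (b.ap_lt hm)).1, (hb m hm).1],
    fun n hn => by rw [PC.ap_mul _ _ hm, PC.ap_mul _ _ hn, PC.ap_mul _ _ (xor64 hm hn),
      (hb m hm).2 n hn, (ha _ (b.ap_lt hm)).2 _ (b.ap_lt hn)]⟩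
  inv_mem' := fun {a} ha m hm => ⟨by rw [← (ha _ (a⁻¹.ap_lt hm)).1, ap_ap_inv a hm], fun n hn => by
    have := (ha _ (a⁻¹.ap_lt hm)).2 _ (a⁻¹.ap_lt hn)
    rw [ap_ap_inv a hm, ap_ap_inv a hn] at this
    rw [← this, ap_inv_ap a (xor64 (a⁻¹.ap_lt hm) (a⁻¹.ap_lt hn))]⟩

noncomputable instance decIso (ks : ℕ) (x : ΓV) : Decidable (x ∈ Iso ks) :=
  inferInstanceAs (Decidable (∀ m < 64, kS ks (x.ap m) = kS ks m ∧
    ∀ n < 64, x.ap (m ^^^ n) = x.ap m ^^^ x.ap n))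

theorem Iso.zero {ks : ℕ} {x : ΓV} (h : x ∈ Iso ks) : x.ap 0 = 0 := by
  simpa using (h 0 (by omega)).2 0 (by omega)

theorem Iso.b {ks : ℕ} (hk : ks < 64) {x : ΓV} (h : x ∈ Iso ks) {m n : ℕ} (hm : m < 64) (hn : n < 64) :
    bS (x.ap m) (x.ap n) = bS m n := by
  have h1 := kS_xor ks hk _ (x.ap_lt hm) _ (x.ap_lt hn)
  rw [← (h m hm).2 n hn, (h _ (xor64 hm hn)).1, (h m hm).1, (h n hn).1, kS_xor ks hk m hm n hn] at h1
  revert h1
  cases kS ks m <;> cases kS ks n <;> cases bS m n <;> simp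

theorem bits : ∀ m < 64, m = m % 2 * 1 ^^^ (m / 2 % 2 * 2 ^^^ (m / 4 % 2 * 4 ^^^ (m / 8 % 2 * 8 ^^^
    (m / 16 % 2 * 16 ^^^ m / 32 % 2 * 32)))) := by decide +kernel

theorem Iso.one {ks : ℕ} {x : ΓV} (h : x ∈ Iso ks) (e : ∀ i < 6, x.ap (2 ^ i) = 2 ^ i) : x = 1 := by
  refine ext_ap fun m hm => ?_
  have k : ∀ i < 6, ∀ n, x.ap (n % 2 * 2 ^ i) = n % 2 * 2 ^ i ∧ n % 2 * 2 ^ i < 64 := fun i hi n => by
    rcases Nat.mod_two_eq_zero_or_one n with e1 | e1 <;> simp [e1, Iso.zero h, e i hi, pow64 hi]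
  have s : ∀ {a b}, x.ap a = a ∧ a < 64 → x.ap b = b ∧ b < 64 → x.ap (a ^^^ b) = a ^^^ b ∧ a ^^^ b < 64 :=
    fun h1 h2 => ⟨by rw [(h _ h1.2).2 _ h2.2, h1.1, h2.1], xor64 h1.2 h2.2⟩
  rw [PC.ap_one hm, bits m hm]
  exact (s (k 0 (by omega) _) (s (k 1 (by omega) _) (s (k 2 (by omega) _) (s (k 3 (by omega) _)
    (s (k 4 (by omega) _) (k 5 (by omega) _)))))).1

theorem card_le_orb {G β : Type*} [Group G] [Finite G] {K S : Subgroup G} (F : G → β) {O : List β}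
    (hO : ∀ x ∈ K, F x ∈ O) (h : ∀ x ∈ K, ∀ y ∈ K, F x = F y → x⁻¹ * y ∈ S) :
    Nat.card K ≤ O.length * Nat.card S := by
  classical
  have : ∀ b : β, ∃ r, (∃ x ∈ K, F x = b) → r ∈ K ∧ F r = b := fun b => by
    by_cases e : ∃ x ∈ K, F x = b
    exacts [e.imp fun _ h _ => h, ⟨1, fun e' => absurd e' e⟩]
  choose r hr using this
  have k := fun x : K => hr (F x) ⟨x, x.2, rfl⟩
  have := Nat.card_le_card_of_injective (fun x : K => ((⟨F x, List.mem_toFinset.mpr (hO x x.2)⟩,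
    ⟨(r (F x))⁻¹ * x, h _ (k x).1 x x.2 (k x).2⟩) : O.toFinset × S)) fun a b e => by
      have e1 : F a = F b := congrArg (fun p => (p.1 : β)) e
      have e2 : (r (F a))⁻¹ * a = (r (F b))⁻¹ * b := congrArg (fun p => (p.2 : G)) e
      rw [e1] at e2
      exact Subtype.ext (mul_left_cancel e2)
  rw [Nat.card_prod, Nat.card_eq_finsetCard] at this
  exact this.trans (Nat.mul_le_mul_right _ (List.toFinset_card_le _))

/-- the stabiliser of the first basis vectors -/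
def Stb (ks i : ℕ) : Subgroup ΓV where
  carrier := {x | x ∈ Iso ks ∧ ∀ j < i, j < 6 → x.ap (2 ^ j) = 2 ^ j}
  one_mem' := ⟨one_mem _, fun _ _ hj => PC.ap_one (pow64 hj)⟩
  mul_mem' := fun {a b} ha hb => ⟨mul_mem ha.1 hb.1, fun j h hj => by
    rw [PC.ap_mul _ _ (pow64 hj), hb.2 j h hj, ha.2 j h hj]⟩
  inv_mem' := fun {a} ha => ⟨inv_mem ha.1, fun j h hj => by
    conv_lhs => rw [← ha.2 j h hj, ap_inv_ap a (pow64 hj)]⟩

theorem card_iso {ks : ℕ} (hk : ks < 64) {O : List (List ℕ)} (hO : ∀ i < 6, ∀ v < 64, v ≠ 0 →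
    kS ks v = kS ks (2 ^ i) → (∀ j < i, bS (2 ^ j) v = bS (2 ^ j) (2 ^ i)) → v ∈ O.getD i []) :
    Nat.card (Iso ks) ≤ ((List.range 6).map fun i => (O.getD i []).length).prod := by
  have st : ∀ i < 6, Nat.card (Stb ks i) ≤ (O.getD i []).length * Nat.card (Stb ks (i + 1)) :=
    fun i hi => card_le_orb (·.ap (2 ^ i)) (fun x hx => hO i hi _ (x.ap_lt (pow64 hi)) (fun e => by
      have := ap_inv_ap x (pow64 hi)
      rw [e, Iso.zero (inv_mem hx.1)] at this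
      exact absurd this (by positivity)) (hx.1 _ (pow64 hi)).1 fun j hj => by
        rw [← Iso.b hk hx.1 (pow64 (hj.trans hi)) (pow64 hi), hx.2 j hj (hj.trans hi)])
      fun x hx y hy e => ⟨mul_mem (inv_mem hx.1) hy.1, fun j h hj => by
        rcases Nat.lt_succ_iff_lt_or_eq.mp h with h | rfl
        · exact (mul_mem (inv_mem hx) hy).2 j h hj
        · rw [PC.ap_mul _ _ (pow64 hj), ← show x.ap _ = y.ap _ from e, ap_inv_ap x (pow64 hj)]⟩
  have e0 : Iso ks = Stb ks 0 := le_antisymm (fun x hx => ⟨hx, by omega⟩) fun x hx => hx.1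
  have e6 : Stb ks 6 = ⊥ := eq_bot_iff.mpr fun x hx => Iso.one hx.1 fun i hi => hx.2 i hi hi
  have h5 := st 5 (by omega)
  rw [e6, card_bot] at h5
  rw [e0]
  simp only [List.range_succ, List.range_zero, List.map_append, List.prod_append, List.map_cons,
    List.map_nil, List.prod_cons, List.prod_nil, List.nil_append, mul_one, mul_assoc] at h5 ⊢
  exact (st 0 (by omega)).trans (Nat.mul_le_mul_left _ ((st 1 (by omega)).trans (Nat.mul_le_mul_left _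
    ((st 2 (by omega)).trans (Nat.mul_le_mul_left _ ((st 3 (by omega)).trans (Nat.mul_le_mul_left _
      ((st 4 (by omega)).trans (Nat.mul_le_mul_left _ h5)))))))))

theorem card_iso0 : Nat.card (Iso 0) ≤ 51840 := card_iso (O := orbs) (by omega) (by decide +kernel)
theorem card_iso4 : Nat.card (Iso 4) ≤ 60480 := card_iso (O := orbs') (by omega) (by decide +kernel)

theorem not_plus {I : Subgroup ΓV} (h : I ≤ Iso 4) : Nat.card I ≠ 25920 := fun e => by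
  have : Fact (Nat.Prime 7) := ⟨by norm_num⟩
  obtain ⟨h1, h2, h3⟩ : s7 ∈ Iso 4 ∧ s7 ^ 7 = 1 ∧ s7 ≠ 1 := by decide +kernel
  have d1 := card_dvd_of_le h
  have d2 := card_dvd_of_le (zpowers_le.mpr h1)
  rw [Nat.card_zpowers, orderOf_eq_prime h2 h3] at d2
  rw [e] at d1
  have := Nat.le_of_dvd Nat.card_pos (Nat.Coprime.mul_dvd_of_dvd_of_dvd (by norm_num) d1 d2)
  have := card_iso4
  omega

theorem gO_iso : ∀ x ∈ gO, x ∈ Iso 0 ∧ (x ^ 8) ^ 2 = x := by decide +kernel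

theorem eq_omega {I : Subgroup ΓV} (h : I ≤ Iso 0) (e : Nat.card I = 25920) : I = clo gO := by
  refine (eq_of_le_of_card_ge (clo_le fun x hx => ?_) (e ▸ chO_card)).symm
  obtain ⟨h1, h2⟩ := gO_iso x hx
  have c := PLoc.card_inf_mul_relIndex I (Iso 0)
  rw [inf_eq_left.mpr h, e] at c
  have := card_iso0
  have p : 0 < Nat.card (Iso 0) := Nat.card_pos
  have : I.relIndex (Iso 0) = 1 ∨ I.relIndex (Iso 0) = 2 := by
    generalize I.relIndex (Iso 0) = k at *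
    omega
  rcases this with e1 | e1
  · exact relIndex_eq_one.mp e1 h1
  · have := sq_mem_of_index_two e1 (⟨x, h1⟩ ^ 8)
    rw [mem_subgroupOf] at this
    exact h2 ▸ this

theorem O_iso : clo gO ≤ Iso 0 := clo_le fun x hx => (gO_iso x hx).1

end Cfsg.Agent.SZ
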