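/-
Involution centralisers of shape `2^{1+6}.Ω₆⁻(2)`: coordinates and the action on the orthogonal space.
-/
import Cfsg.Agent.SZ.V

set_option autoImplicit false
set_option maxRecDepth 100000

namespace Cfsg.Agent.SZ

open HJ HX Subgroup PLoc
open scoped commutatorElement

variable {G : Type*} [Group G]

/-- the hypothesis on the centraliser of `z` -/
structure SQ (z : G) (Q : Subgroup G) : Prop extends X0 z Q where
  norm : ∀ h, h * z = z * h → ∀ x ∈ Q, h * x * h⁻¹ ∈ Q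
  card : Nat.card Q = 128
  cardH : Nat.card (centralizer ({z} : Set G)) = 3317760
  cent : ∀ h, h * z = z * h → (∀ x ∈ Q, h * x = x * h) → h = 1 ∨ h = z
  zmem : z ∈ Q

/-- a basis with the standard Gram matrix -/
structure Bs (z : G) (Q : Subgroup G) (ks : ℕ) (Y : ℕ → G) : Prop where
  lt : ks < 64
  mem : ∀ i, Y i ∈ Q
  k : ∀ i < 6, kf (Y i) = ks.testBit i
  b : ∀ i < 6, ∀ j < 6, bf (Y i) (Y j) = bS (2 ^ i) (2 ^ j)

set_option hygiene false in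
local notation "Θ" => gr es (yl Y z)

variable [Finite G] {z : G} {Q : Subgroup G} (h : SQ z Q)
include h

theorem SQ.xs : PG.XS 2 Q z := by
  have k : ∀ {x}, x = 1 ∨ x = z → x ∈ zpowers z := by
    rintro _ (rfl | rfl)
    exacts [one_mem _, mem_zpowers _]
  refine ⟨orderOf_eq_prime (by rw [pow_two, h.z2]) h.z1, h.zmem, fun x hx => h.le x hx,
    fun d hd => k (h.cent d (h.le d hd.1) fun x hx => (hd.2 x hx).symm), commutator_le.mpr
      fun x hx y hy => k ?_, fun x hx => k (by rw [pow_two]; exact h.sq x hx)⟩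
  refine (h.comm x hx y hy).imp commutatorElement_eq_one_iff_mul_comm.mpr fun e => ?_
  rw [commutatorElement_def, e, mul_assoc _ z, ← h.le _ (inv_mem hx), mul_assoc _ _ y⁻¹,
    mul_assoc _ z, ← h.le _ (inv_mem hy)]
  group

theorem SQ.basis0 : ∃ ks Y, Bs z Q ks Y := by
  have X := h.xs
  have c := h.card
  obtain ⟨x, hx, y, hy, e1⟩ := X.pair' Nat.prime_two (mt (X.abel_iff Nat.prime_two).mp (by omega))
  have e2 := X.card Nat.prime_two hx hy e1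
  have X' := X.cent hx hy e1
  obtain ⟨x', hx', y', hy', e3⟩ := X'.pair' Nat.prime_two
    (mt (X'.abel_iff Nat.prime_two).mp (by omega))
  have e4 := X'.card Nat.prime_two hx' hy' e3
  have X'' := X'.cent hx' hy' e3
  obtain ⟨u, hu, v, hv, e5⟩ := X''.pair' Nat.prime_two
    (mt (X''.abel_iff Nat.prime_two).mp (by omega))
  have t : ∀ {a b : G}, ⁅a, b⁆ = z → bf a b = true ∧ bf b a = true := fun e => by
    rw [bf_symm, and_self]
    simpa [bf] using fun e' => h.z1 (e ▸ commutatorElement_eq_one_iff_mul_comm.mpr e'.symm)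
  have f : ∀ {a b : G}, a ∈ centralizer {b} → bf a b = false ∧ bf b a = false := fun e => by
    rw [bf_symm, and_self, bf_symm, bf_false]; exact mem_centralizer_singleton_iff.mp e
  have m1 := fun x y w h1 h2 h3 => h.bf_mul (x := x) (y := y) (w := w) h1 h2 h3
  have m2 : ∀ x y w, x ∈ Q → y ∈ Q → w ∈ Q → bf w (x * y) = (bf w x ^^ bf w y) :=
    fun x y w h1 h2 h3 => by rw [bf_symm, m1 _ _ _ h1 h2 h3, bf_symm w, bf_symm w]
  have q1 : x' ∈ Q := hx'.1.1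
  have q2 : y' ∈ Q := hy'.1.1
  have q3 : u ∈ Q := hu.1.1.1.1
  have q4 : v ∈ Q := hv.1.1.1.1
  have q5 : x' * y' ∈ Q := mul_mem q1 q2
  have q6 : x' * y' * u ∈ Q := mul_mem q5 q3
  have q7 : x' * y' * v ∈ Q := mul_mem q5 q4
  obtain ⟨m, hm, e⟩ := fS.2.2.2.1 (kf x) (kf y) (kf x') (kf y') (kf (x' * y' * u)) (kf (x' * y' * v))
  refine ⟨m, fun i => [x, y, x', y', x' * y' * u, x' * y' * v].getD i 1, hm, fun i => ?_,
    fun i hi => ?_, fun i hi j hj => ?_⟩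
  · exact atm_mem (gs := [x, y, x', y', x' * y' * u, x' * y' * v]) (K := Q)
      (by simp [mul_mem, *]) (2 * i) |> fun e => by simpa [atm] using e
  · interval_cases i <;> simp [e]
  · interval_cases i <;> interval_cases j <;>
      simp only [List.getD_cons_zero, List.getD_cons_succ, m1, m2, hx, hy, q1, q2, q3, q4, q5, q6, q7,
        bf_self, t e1, t e3, t e5, f hx'.1.2, f hx'.2, f hy'.1.2, f hy'.2, f hu.1.1.1.2, f hu.1.1.2,
        f hu.1.2, f hu.2, f hv.1.1.1.2, f hv.1.1.2, f hv.1.2, f hv.2] <;> decide +kernel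

variable {ks : ℕ} {Y : ℕ → G} (s : Bs z Q ks Y)
include s

theorem Bs.thQ {m : BV} {x : G} (hx : (m, x) ∈ Θ) : x ∈ Q :=
  clo_le (by simp [s.mem, h.zmem]) (gr_mem hx).2

theorem Bs.bf_th {m n : ℕ} {x y : G} (hx : (⟨m⟩, x) ∈ Θ) (hy : (⟨n⟩, y) ∈ Θ) : bf x y = bS m n := by
  have k : ∀ n, ∀ y ∈ Q, (∀ i < 6, bf (Y i) y = bS (2 ^ i) n) → ∀ m x, (⟨m⟩, x) ∈ Θ →
      bf x y = bS m n := fun n y hy e m x hx =>
    th_ind (P := fun m x => bf x y = bS m n) (by simp [bf, bS_zero])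
      (by simp [bf, bS_zero, h.le y hy]) e (fun _ _ _ _ h1 h2 i1 i2 => by
        rw [h.bf_mul (s.thQ h h1) (s.thQ h h2) hy, i1, i2, bS_xor])
      (fun _ _ e => (bf_inv _ _).trans e) hx
  refine k n y (s.thQ h hy) (fun i hi => ?_) m x hx
  rw [bf_symm, bS_symm _ (pow64 hi) _ (th_lt hy)]
  exact k _ _ (s.mem i) (fun j hj => s.b j hj i hi) _ _ hy

theorem Bs.kf_th {m : ℕ} {x : G} (hx : (⟨m⟩, x) ∈ Θ) : kf x = kS ks m :=
  th_ind (P := fun m x => kf x = kS ks m) (by simp [kf, (fS.1 ks s.lt).1])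
    (by simp [kf, (fS.1 ks s.lt).1, h.z2])
    (fun i hi => by rw [s.k i hi, (fS.1 ks s.lt).2 i hi]) (fun _ _ _ _ h1 h2 i1 i2 => by
      rw [h.kf_mul (s.thQ h h1) (s.thQ h h2), i1, i2, s.bf_th h h1 h2,
        kS_xor ks s.lt _ (th_lt h1) _ (th_lt h2)]) (fun _ _ e => (kf_inv _).trans e) hx

theorem Bs.th_inj {m n : ℕ} {x : G} (h1 : (⟨m⟩, x) ∈ Θ) (h2 : (⟨n⟩, x) ∈ Θ) : m = n := by
  have m1 : ((⟨m ^^^ n⟩ : BV), x * x⁻¹) ∈ Θ := pm_mul h1 (pm_inv h2)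
  refine Nat.eq_of_xor_eq_zero (fS.2.1 _ (th_lt m1) fun i hi => ?_)
  rw [← s.bf_th h m1 (th_Y hi)]; simp [bf]

omit h s [Finite G] in
theorem th_ez (b : Bool) : ((⟨0⟩ : BV), ez z b) ∈ Θ := by
  cases b
  exacts [pm_one, mem_clo (by simp [ez])]

omit h s [Finite G] in
theorem th_mul_ez {m : ℕ} {x : G} (hx : (⟨m⟩, x) ∈ Θ) (b : Bool) : ((⟨m⟩ : BV), x * ez z b) ∈ Θ :=
  Nat.xor_zero m ▸ pm_mul hx (th_ez b)

theorem Bs.clo : clo (yl Y z) = Q := by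
  have le : HJ.clo (yl Y z) ≤ Q := clo_le (by simp [s.mem, h.zmem])
  have m : ∀ p : Fin 64 × Bool, ((⟨p.1⟩ : BV), ev (atm (yl Y z)) (wd p.1) * ez z p.2) ∈ Θ :=
    fun p => th_mul_ez (th_wd p.1.2) _
  refine eq_of_le_of_card_ge le ?_
  have := Nat.card_le_card_of_injective (fun p : Fin 64 × Bool =>
    (⟨_, (gr_mem (m p)).2⟩ : HJ.clo (yl Y z))) fun a b e => by
      have e1 := congrArg Subtype.val e
      dsimp only at e1
      have e2 : a.1 = b.1 := Fin.ext (s.th_inj h (m a) (e1 ▸ m b))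
      rw [e2] at e1
      exact Prod.ext e2 (h.ez_inj (mul_left_cancel e1))
  simpa [h.card] using this

theorem Bs.th {x : G} (hx : x ∈ Q) : ∃ m, (⟨m⟩, x) ∈ Θ :=
  (gr_left es (s.clo h ▸ hx)).elim fun m e => ⟨m.n, e.2⟩

theorem Bs.th_fn {m : ℕ} {x y : G} (h1 : (⟨m⟩, x) ∈ Θ) (h2 : (⟨m⟩, y) ∈ Θ) :
    ∃ b, x = y * ez z b := by
  have m1 : ((⟨m ^^^ m⟩ : BV), y⁻¹ * x) ∈ Θ := pm_mul (pm_inv h2) h1
  rcases h.cent _ (h.le _ (s.thQ h m1)) fun w hw => by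
    obtain ⟨n, m2⟩ := s.th h hw
    rw [← bf_false, s.bf_th h m1 m2]; simp [bS_zero] with e | e
  · exact ⟨false, by simp [ez, inv_mul_eq_one.mp e]⟩
  · exact ⟨true, inv_mul_eq_iff_eq_mul.mp e⟩

omit h s in
/-- the action on coordinates -/
def Lam (h : SQ z Q) (s : Bs z Q ks Y) : Subgroup (ΓV × G) where
  carrier := {p | p.2 * z = z * p.2 ∧ ∀ m x, (⟨m⟩, x) ∈ Θ → ((⟨p.1.ap m⟩ : BV), p.2 * x * p.2⁻¹) ∈ Θ}
  one_mem' := ⟨by simp, fun m x hx => by simpa [PC.ap_one (th_lt hx)] using hx⟩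
  mul_mem' := fun {a b} ha hb => ⟨Commute.mul_left ha.1 hb.1, fun m x hx => by
    simpa only [Prod.fst_mul, Prod.snd_mul, PC.ap_mul _ _ (th_lt hx), cj_mul'] using
      ha.2 _ _ (hb.2 m x hx)⟩
  inv_mem' := fun {a} ha => ⟨Commute.inv_left ha.1, fun m x hx => by
    obtain ⟨n, hn⟩ := s.th h (h.norm _ (Commute.inv_left ha.1) x (s.thQ h hx))
    have := ha.2 _ _ hn
    rw [show a.2 * (a.2⁻¹ * x * a.2⁻¹⁻¹) * a.2⁻¹ = x by group] at this
    rwa [← s.th_inj h this hx, Prod.fst_inv, ap_inv_ap _ (th_lt hn)]⟩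

local notation "Λ" => Lam h s

theorem Bs.lam_iso {γ : ΓV} {t : G} (m : (γ, t) ∈ Λ) : γ ∈ Iso ks := fun a ha => by
  have w := fun a ha => th_wd (Y := Y) (z := z) (m := a) ha
  refine ⟨?_, fun b hb => s.th_inj h (m.2 _ _ (pm_mul (w a ha) (w b hb))) ?_⟩
  · rw [← s.kf_th h (m.2 _ _ (w a ha)), ← s.kf_th h (w a ha)]
    exact kf_map (MulAut.conj t) _
  · rw [← conj_mul]; exact pm_mul (m.2 _ _ (w a ha)) (m.2 _ _ (w b hb))

theorem Bs.lam_of {γ : ΓV} {t : G} (hγ : γ ∈ Iso ks) (hz : t * z = z * t)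
    (e : ∀ i < 6, ((⟨γ.ap (2 ^ i)⟩ : BV), t * Y i * t⁻¹) ∈ Θ) : (γ, t) ∈ Λ := ⟨hz, fun _ _ hx =>
  th_ind (P := fun m x => ((⟨γ.ap m⟩ : BV), t * x * t⁻¹) ∈ Θ)
    (by rw [Iso.zero hγ, mul_one, mul_inv_cancel]; exact pm_one)
    (by rw [Iso.zero hγ, cj_of_comm hz]; exact th_ez true) e
    (fun _ _ _ _ h1 h2 i1 i2 => by
      rw [(hγ _ (th_lt h1)).2 _ (th_lt h2), ← conj_mul]; exact pm_mul i1 i2)
    (fun _ _ i1 => by rw [← conj_inv]; exact pm_inv i1) hx⟩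

theorem Bs.lam_Q {t : G} (ht : t ∈ Q) : ((1 : ΓV), t) ∈ Λ := ⟨h.le t ht, fun m x hx => by
  obtain ⟨n, m1⟩ := s.th h ht
  have m2 : ((⟨n ^^^ m ^^^ n⟩ : BV), t * x * t⁻¹) ∈ Θ := pm_mul (pm_mul m1 hx) (pm_inv m1)
  rwa [Nat.xor_comm n, Nat.xor_assoc, Nat.xor_self, Nat.xor_zero, ← PC.ap_one (w := 6) (th_lt hx)] at m2⟩

theorem Bs.lam_ker {t : G} (m : ((1 : ΓV), t) ∈ Λ) : t ∈ Q := by
  have := h.xs.inner Nat.prime_two (Commute.symm m.1) fun q hq => by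
    obtain ⟨n, m1⟩ := s.th h hq
    have m2 := m.2 _ _ m1
    rw [PC.ap_one (th_lt m1)] at m2
    obtain ⟨b, e⟩ := s.th_fn h m2 m1
    rw [commutatorElement_def, e, cj_of_comm (h.ez_comm (h.le q hq) b)]
    cases b
    exacts [one_mem _, mem_zpowers _]
  refine (sup_le le_rfl fun x hx => ?_ : _ ≤ Q) this
  rcases h.cent x (hx z h.zmem).symm fun y hy => (hx y hy).symm with rfl | rfl
  exacts [one_mem _, h.zmem]

theorem Bs.lam_inj : Inj Λ := fun γ m => Iso.one (s.lam_iso h m) fun i hi =>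
  s.th_inj h (by simpa using m.2 _ _ (th_Y hi)) (th_Y hi)

theorem Bs.lam_ex {t : G} (hz : t * z = z * t) : ∃ γ, (γ, t) ∈ Λ := by
  have w := fun a : Fin 64 => th_wd (Y := Y) (z := z) a.2
  choose φ hφ using fun a => s.th h (h.norm t hz _ (s.thQ h (w a)))
  have i : Function.Injective fun a : Fin 64 => (⟨φ a, th_lt (hφ a)⟩ : Fin 64) := fun a b e => by
    have e1 : φ a = φ b := congrArg Fin.val e
    obtain ⟨c, e2⟩ := s.th_fn h (hφ a) (e1 ▸ hφ b)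
    rw [← cj_of_comm (h.ez_comm hz c), conj_mul, mul_left_inj, mul_right_inj] at e2
    exact Fin.ext (s.th_inj h (w a) (e2 ▸ th_mul_ez (w b) c))
  refine ⟨PC.ofPerm (Equiv.ofBijective _ (Finite.injective_iff_bijective.mp i)), hz, fun m x hx => ?_⟩
  have hm := th_lt hx
  obtain ⟨c, e⟩ := s.th_fn h hx (w ⟨m, hm⟩)
  rw [e, PC.ap_ofPerm _ hm, ← conj_mul, cj_of_comm (h.ez_comm hz c)]
  simpa [pv, hm] using th_mul_ez (hφ ⟨m, hm⟩) c

theorem Bs.card_im : Nat.card ((Λ).map (MonoidHom.fst ΓV G)) = 25920 := by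
  have c1 := card_map_mul_card_ker_inf (MonoidHom.fst ΓV G) Λ
  have c2 := card_map_mul_card_ker_inf (MonoidHom.snd ΓV G) Λ
  have c3 := card_map_mul_card_ker_inf (MonoidHom.snd ΓV G) ((MonoidHom.fst ΓV G).ker ⊓ Λ)
  have k : (MonoidHom.snd ΓV G).ker ⊓ Λ = ⊥ := eq_bot_iff.mpr fun p hp =>
    Prod.ext (s.lam_inj h _ ((show p.2 = 1 from hp.1) ▸ hp.2)) hp.1
  rw [inf_left_comm, k, inf_bot_eq, show map _ _ = Q from le_antisymm
    (by rintro _ ⟨p, hp, rfl⟩; exact s.lam_ker h ((show p.1 = 1 from hp.1) ▸ hp.2))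
    fun t ht => ⟨(1, t), mem_inf.2 ⟨rfl, s.lam_Q h ht⟩, rfl⟩, h.card, card_bot] at c3
  rw [k, show map _ _ = centralizer {z} from le_antisymm
    (by rintro _ ⟨p, hp, rfl⟩; exact mem_centralizer_singleton_iff.mpr hp.1)
    fun t ht => (s.lam_ex h (mem_centralizer_singleton_iff.mp ht)).elim fun γ m => ⟨_, m, rfl⟩,
    h.cardH, card_bot] at c2
  rw [mul_one] at c2 c3
  rw [← c3, ← c2] at c1
  omega

omit s in
theorem SQ.basis : ∃ Y, Bs z Q 0 Y := by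
  obtain ⟨ks, Y, s⟩ := h.basis0
  obtain ⟨t, ht, e⟩ := fS.2.2.2.2 ks s.lt
  have w := fun i hi => th_wd (Y := Y) (z := z) (e i hi).1
  have s' : Bs z Q t fun i => ev (atm (yl Y z)) (wd ((tab.getD ks []).getD i 0)) :=
    ⟨by rcases List.mem_pair.mp ht with rfl | rfl <;> omega, fun i => s.clo h ▸ ev_mem_clo _ _, fun i hi => by
      rw [s.kf_th h (w i hi), (e i hi).2.1], fun i hi j hj => by
      rw [s.bf_th h (w i hi) (w j hj), (e i hi).2.2 j hj]⟩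
  rcases List.mem_pair.mp ht with rfl | rfl
  · exact ⟨_, s'⟩
  · exact absurd (s'.card_im h) (not_plus (by rintro _ ⟨p, hp, rfl⟩; exact s'.lam_iso h hp))

end Cfsg.Agent.SZ
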