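/-
The centraliser of the involution compared with the models.
-/
import Cfsg.Agent.SZ.Th
import Cfsg.Agent.SZ.QF

set_option autoImplicit false
set_option maxRecDepth 100000

namespace Cfsg.Agent.SZ

open HJ HX Subgroup PLoc

variable {G : Type*} [Group G]

/-- coordinates on `Q` and the action of the centraliser -/
structure B1 (z f g c h i j : G) (Q : Subgroup G) (Λ : Subgroup (ΓV × G))
    (Δ : Subgroup (ΓQ × G)) : Prop extends SQ z Q where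
  eΔ : Δ = gr gQ [f, g, c, h, i, j, z]
  fn : Fn Δ
  inj : Inj Δ
  mem : ∀ {u0 u}, (u0, u) ∈ Δ → u0 ∈ clo gQ ∧ u ∈ Q
  lift : ∀ {u}, u ∈ Q → ∃ u0, (u0, u) ∈ Δ
  down : ∀ {u0}, u0 ∈ clo gQ → ∃ u, (u0, u) ∈ Δ
  lz : ∀ {γ t}, (γ, t) ∈ Λ → t * z = z * t
  linj : Inj Λ
  lker : ∀ {t}, ((1 : ΓV), t) ∈ Λ → t ∈ Q
  lQ : ∀ {t}, t ∈ Q → ((1 : ΓV), t) ∈ Λ
  lex : ∀ {t}, t * z = z * t → ∃ γ ∈ clo gO, (γ, t) ∈ Λ
  ldown : ∀ {γ}, γ ∈ clo gO → ∃ t, (γ, t) ∈ Λ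
  cO : Nat.card (clo gO) = 25920
  adj : ∀ {γ t0 t}, Cp γ t0 → (γ, t) ∈ Λ →
    ∃ q0 ∈ clo gQ, (t0 * q0, t) ∈ normalizer (Δ : Set (ΓQ × G))
  back : ∀ {γ t0 t}, Cp γ t0 → γ ∈ clo gO → (t0, t) ∈ normalizer (Δ : Set (ΓQ × G)) →
    t * z = z * t → (γ, t) ∈ Λ
  act : ∀ {γ t u0 u w0 w}, (γ, t) ∈ Λ → (u0, u) ∈ Δ → (w0, w) ∈ Δ →
    γ.ap (u0.ap 0 % 64) = w0.ap 0 % 64 → t * u * t⁻¹ = w ∨ t * u * t⁻¹ = w * z
  fix : ∀ {γ t u0 u}, (γ, t) ∈ Λ → (u0, u) ∈ Δ → t * u = u * t →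
    γ.ap (u0.ap 0 % 64) = u0.ap 0 % 64
  inv : ∀ {w}, w ∈ Q → w * w = 1 → w = 1 ∨ w = z ∨ ∃ t, t * z = z * t ∧ t * f * t⁻¹ = w

variable [Finite G] {z : G} {Q : Subgroup G} (h : SQ z Q) {Y : ℕ → G} (s : Bs z Q 0 Y)
include h s

set_option hygiene false in
local notation "Θ" => gr es (yl Y z)
set_option hygiene false in
local notation "Δ" => gr gQ (yl Y z)

theorem Bs.sat : Sat cQ.RL (yl Y z) := by
  have e : ∀ i < 6, atm (yl Y z) (2 * i) = Y i := fun i hi => by interval_cases i <;> rfl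
  have e' : atm (yl Y z) 12 = z := rfl
  have k : ∀ i < 6, Y i * Y i = 1 := fun i hi => by simpa [s.k i hi, ez] using h.kf_eq (s.mem i)
  intro l hl
  rcases (by decide +kernel : ∀ l ∈ cQ.RL, l = [12, 12] ∨ ∃ i < 6, l = [2 * i, 2 * i] ∨
    l = [2 * i, 12, 2 * i, 12] ∨ ∃ j < 6, l = [2 * i, 2 * j, 2 * i, 2 * j] ++
      cond (bS (2 ^ j) (2 ^ i)) [12] []) l hl with rfl | ⟨i, hi, rfl | rfl | ⟨j, hj, rfl⟩⟩
  · simpa [e'] using h.z2
  · simpa [e i hi] using k i hi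
  · simp only [ev_cons, ev_nil, e i hi, e', mul_one]
    rw [← mul_assoc z, ← h.le _ (s.mem i), mul_assoc, h.z2, mul_one, k i hi]
  · have := h.bf_eq (s.mem j) (s.mem i)
    rw [s.b j hj i hi] at this
    simp only [ev_append, ev_cons, ev_nil, e i hi, e j hj, mul_one]
    rw [← mul_assoc (Y j), this, mul_assoc _ (ez _ _), ← h.ez_comm (h.le _ (s.mem j)),
      ← mul_assoc (_ * _), mul_assoc (Y i) (Y j), k j hj, mul_one, ← mul_assoc, k i hi, one_mul]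
    cases bS (2 ^ j) (2 ^ i) <;> simp [ez, e', h.z2]

theorem Bs.fn : Fn Δ := fn_of_le (leQ (satQ.zip (s.sat h))) chQ_card

omit h s [Finite G] in
theorem mz' : (z0, z) ∈ Δ := mem_clo (by simp)

omit h s [Finite G] in
theorem mwd (m : ℕ) (b : Bool) :
    (ev (atm gQ) (wd m) * ez z0 b, ev (atm (yl Y z)) (wd m) * ez z b) ∈ Δ := by
  refine pm_mul (ev_mem_gr (by rfl) _) ?_
  cases b
  exacts [pm_one, mz']

theorem Bs.inj : Inj Δ := fun x m => by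
  have fn := s.fn h
  have mz := mz' (Y := Y) (z := z)
  rcases (fQ x (gr_mem m).1).1 with e | e | ⟨w, hw, e⟩
  · exact e
  · exact absurd (fn.eq m mz e).symm h.z1
  · obtain ⟨w', -, m'⟩ := gr_right (yl Y z) (mem_clo hw)
    exact absurd (by simpa using (fn.eq (y := 1 * w' * 1⁻¹ * w'⁻¹) (by gm) mz e).symm) h.z1

theorem Bs.cd {u0 : ΓQ} {u : G} (m : (u0, u) ∈ Δ) : ((⟨u0.ap 0 % 64⟩ : BV), u) ∈ Θ := by
  obtain ⟨n, m1⟩ := s.th h (s.clo h ▸ (gr_mem m).2)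
  obtain ⟨b, e⟩ := s.th_fn h m1 (th_wd (th_lt m1))
  rwa [(s.inj h).eq m (mwd n b) e, cd_wd n (th_lt m1)]

theorem Bs.adj {γ : ΓV} {t0 : ΓQ} {t : G} (cp : Cp γ t0) (m : (γ, t) ∈ Lam h s) :
    ∃ q0 ∈ HJ.clo gQ, (t0 * q0, t) ∈ normalizer (Δ : Set (ΓQ × G)) := by
  have hz : t * z = z * t := m.1
  have k : ∀ i, i < 6 → ∃ b, (t0 * gQ.getD i 1 * t0⁻¹, t * Y i * t⁻¹ * ez z b) ∈ Δ :=
    fun i hi => by
      obtain ⟨b, e1⟩ := cp.2 i hi
      obtain ⟨b', e2⟩ := s.th_fn h (m.2 _ _ (th_Y hi)) (th_wd (γ.ap_lt (pow64 hi)))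
      refine ⟨b' ^^ b, ?_⟩
      rw [e1, e2, mul_assoc, h.ez_mul, ← Bool.xor_assoc, Bool.xor_self, Bool.false_xor]
      exact mwd _ _
  choose! b hb using k
  obtain ⟨n, hn, e0⟩ := fS.2.2.1 (b 0) (b 1) (b 2) (b 3) (b 4) (b 5)
  have e1 : ∀ i < 6, bS n (2 ^ i) = b i := fun i hi => by interval_cases i <;> simp [e0]
  have mq := th_wd (Y := Y) (z := z) hn
  have mq' := ev_mem_gr (xs := gQ) (ys := yl Y z) rfl (wd n)
  generalize ev (atm (yl Y z)) (wd n) = q at mq mq'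
  have qz := h.le _ (s.thQ h mq)
  have k2 : ∀ i < 6, (t0 * gQ.getD i 1 * t0⁻¹, t * q * Y i * (t * q)⁻¹) ∈ Δ := fun i hi => by
    have := hb i hi
    rwa [cj_mul', h.bf_eq (s.thQ h mq) (s.mem i), s.bf_th h mq (th_Y hi), e1 i hi, mul_assoc _ q,
      h.ez_comm qz, ← mul_assoc (Y i), mul_inv_cancel_right, ← conj_mul,
      cj_of_comm (h.ez_comm hz _)]
  have : (t0, t * q) ∈ normalizer (Δ : Set (ΓQ × G)) := norm_clo fun p hp => by
    simp only [List.zip_cons_cons, List.zip_nil_right, List.mem_cons, List.not_mem_nil,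
      or_false] at hp
    rcases hp with rfl | rfl | rfl | rfl | rfl | rfl | rfl
    exacts [k2 0 (by omega), k2 1 (by omega), k2 2 (by omega), k2 3 (by omega), k2 4 (by omega),
      k2 5 (by omega), by
        show (t0 * z0 * t0⁻¹, t * q * z * (t * q)⁻¹) ∈ _
        rw [cp.1, cj_of_comm (Commute.mul_left hz qz : t * q * z = z * (t * q))]
        exact mz']
  exact ⟨_, inv_mem (gr_mem mq').1, by simpa using pm_mul this (pm_inv (le_normalizer mq'))⟩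

omit s in
theorem SQ.b1 : ∃ f g c h' i j Λ Δ', B1 z f g c h' i j Q Λ Δ' := by
  obtain ⟨Y, s⟩ := h.basis
  have e := eq_omega (I := (Lam h s).map (MonoidHom.fst ΓV G))
    (by rintro _ ⟨p, hp, rfl⟩; exact s.lam_iso h hp) (s.card_im h)
  have dn : ∀ {γ}, γ ∈ clo gO → ∃ t, (γ, t) ∈ Lam h s := fun hγ =>
    (e.ge hγ).elim fun p hp => ⟨p.2, (show p.1 = _ from hp.2) ▸ hp.1⟩
  refine ⟨Y 0, Y 1, Y 2, Y 3, Y 4, Y 5, Lam h s, Δ, h, rfl, s.fn h, s.inj h,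
    fun m => s.clo h ▸ gr_mem m, fun hu => (gr_left gQ (s.clo h ▸ hu)).imp fun _ m => m.2,
    fun hu => (gr_right _ hu).imp fun _ m => m.2, fun m => m.1, s.lam_inj h, s.lam_ker h,
    s.lam_Q h, fun ht => (s.lam_ex h ht).imp fun γ m => ⟨e.le ⟨_, m, rfl⟩, m⟩, dn,
    e ▸ s.card_im h, s.adj h, fun {γ t0 t} cp hγ m hz => s.lam_of h (O_iso hγ) hz fun i hi => ?_,
    fun m m1 m2 e => ?_, fun m m1 e => ?_, fun {w} hw w2 => ?_⟩
  · obtain ⟨b, e1⟩ := cp.2 i hi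
    have : (gQ.getD i 1, Y i) ∈ Δ := by interval_cases i <;> exact mem_clo (by simp)
    rw [(s.fn h).eq (HL.nj m this) (mwd _ b) e1]
    exact th_mul_ez (th_wd (γ.ap_lt (pow64 hi))) b
  · have := m.2 _ _ (s.cd h m1)
    rw [e] at this
    obtain ⟨b, e⟩ := s.th_fn h this (s.cd h m2)
    cases b
    exacts [Or.inl (by simpa [ez] using e), Or.inr e]
  · have := m.2 _ _ (s.cd h m1)
    rw [cj_of_comm e] at this
    exact s.th_inj h this (s.cd h m1)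
  · obtain ⟨n, m⟩ := s.th h hw
    by_cases n0 : n = 0
    · obtain ⟨b, e⟩ := s.th_fn h (n0 ▸ m) (th_ez false)
      cases b
      exacts [Or.inl (by simpa [ez] using e), Or.inr (Or.inl (by simpa [ez] using e))]
    obtain ⟨l, -, e⟩ := f27 n (th_lt m) n0 (by rw [← s.kf_th h m]; simp [kf, w2])
    obtain ⟨t, mt⟩ := dn (ev_mem_clo gO l)
    have := mt.2 _ _ (th_Y (i := 0) (by omega))
    rw [pow_zero, e] at this
    obtain ⟨b, e⟩ := s.th_fn h m this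
    cases b
    · exact Or.inr (Or.inr ⟨t, mt.1, by simpa [ez] using e.symm⟩)
    · have e1 := h.bf_eq (s.mem 1) (s.mem 0)
      rw [s.b 1 (by omega) 0 (by omega), show bS (2 ^ 1) (2 ^ 0) = true by decide +kernel] at e1
      refine Or.inr (Or.inr ⟨t * Y 1, Commute.mul_left mt.1 (h.le _ (s.mem 1)), ?_⟩)
      rw [cj_mul', e1, mul_assoc (Y 0), h.ez_comm (h.le _ (s.mem 1)), ← mul_assoc (Y 0),
        mul_inv_cancel_right, ← conj_mul, cj_of_comm (h.ez_comm mt.1 _), e]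

end Cfsg.Agent.SZ
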