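/-
Lifts of the generators of `A₅` and the fusion of the four-group.
-/
import Cfsg.Agent.SZ.A
import Cfsg.Agent.MX.A

set_option autoImplicit false
set_option maxRecDepth 100000

namespace Cfsg.Agent.SZ

open HJ HX Subgroup PLoc

variable {G : Type*} [Group G]

/-- pairs inducing the same automorphism of `Q` -/
def NN (Δ : Subgroup (ΓQ × G)) (z : G) : Subgroup (ΓQ × G) :=
  normalizer (Δ : Set (ΓQ × G)) ⊓ (centralizer {z}).comap (MonoidHom.snd ΓQ G)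

theorem NN.c {Δ : Subgroup (ΓQ × G)} {z t : G} {t0 : ΓQ} (m : (t0, t) ∈ NN Δ z) : t * z = z * t :=
  mem_centralizer_singleton_iff.mp m.2

theorem NN.mk {Δ : Subgroup (ΓQ × G)} {z t : G} {t0 : ΓQ}
    (m : (t0, t) ∈ normalizer (Δ : Set (ΓQ × G))) (e : t * z = z * t) : (t0, t) ∈ NN Δ z :=
  mem_inf.2 ⟨m, mem_centralizer_singleton_iff.mpr e⟩

theorem sgn_odd {a b z : G} {n : ℕ} (h : a = b ∨ a = b * z) (z2 : z * z = 1) (z1 : z ≠ 1)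
    (c : b * z = z * b) (ha : a ^ (2 * n + 1) = 1) (hb : b ^ (2 * n + 1) = 1) : a = b :=
  h.resolve_right fun e => z1 (by
    rwa [e, Commute.mul_pow c, hb, one_mul, pow_succ, pow_mul, pow_two, z2, one_pow, one_mul] at ha)

theorem cyc {ρ z f : G} (h1 : ρ * z * ρ⁻¹ = f) (h2 : ρ * f * ρ⁻¹ = z * f) (f2 : f * f = 1)
    (fz : f * z = z * f) : ρ * (z * f) * ρ⁻¹ = z := by
  rw [← conj_mul, h1, h2, ← fz, ← mul_assoc, f2, one_mul]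

theorem cyc_comm {ρ z f t : G} (h1 : ρ * z * ρ⁻¹ = f) (h2 : ρ * f * ρ⁻¹ = z * f) (f2 : f * f = 1)
    (tz : t * z = z * t) (tf : t * f = f * t) :
    ρ * t * ρ⁻¹ * z = z * (ρ * t * ρ⁻¹) ∧ ρ * t * ρ⁻¹ * f = f * (ρ * t * ρ⁻¹) := by
  have e1 : Commute (ρ * t * ρ⁻¹) f := h1 ▸ cj_comm tz
  have e2 : Commute (ρ * t * ρ⁻¹) (z * f) := h2 ▸ cj_comm tf
  exact ⟨by simpa only [mul_assoc z, f2, mul_one] using (e2.mul_right e1).eq, e1⟩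

variable [Finite G] {z f g c h i j : G} {Q : Subgroup G} {Λ : Subgroup (ΓV × G)}
  {Δ : Subgroup (ΓQ × G)}

section
variable (B : B1 z f g c h i j Q Λ Δ)
include B

omit [Finite G] in
theorem B1.m : (f0, f) ∈ Δ ∧ (g0, g) ∈ Δ ∧ (c0, c) ∈ Δ ∧ (h0, h) ∈ Δ ∧ (i0, i) ∈ Δ ∧
    (j0, j) ∈ Δ ∧ (z0, z) ∈ Δ := by
  rw [B.eΔ]; refine ⟨?_, ?_, ?_, ?_, ?_, ?_, ?_⟩ <;> exact mem_clo (by simp)

omit [Finite G] in
theorem B1.leN : Δ ≤ NN Δ z := fun _ m => NN.mk (le_normalizer m) (B.le _ (B.mem m).2)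

omit [Finite G] in
theorem B1.cj {t0 u0 w0 : ΓQ} {t u w : G} (m : (t0, t) ∈ NN Δ z) (mu : (u0, u) ∈ Δ)
    (mw : (w0, w) ∈ Δ) (e : t0 * u0 * t0⁻¹ = w0) : t * u * t⁻¹ = w := B.fn.eq (HL.nj m.1 mu) mw e

omit [Finite G] in
theorem B1.cm {t0 u0 : ΓQ} {t u : G} (m : (t0, t) ∈ NN Δ z) (mu : (u0, u) ∈ Δ)
    (e : t0 * u0 = u0 * t0) : t * u = u * t := comm_of_cj (B.cj m mu mu (cj_of_comm e))

omit [Finite G] in
theorem B1.cm0 {t0 u0 : ΓQ} {t u : G} (m : (t0, t) ∈ NN Δ z) (mu : (u0, u) ∈ Δ)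
    (e : t * u = u * t) : t0 * u0 = u0 * t0 :=
  comm_of_cj (B.inj.eq (HL.nj m.1 mu) mu (cj_of_comm e))

omit [Finite G] in
theorem B1.L1 {t0 : ΓQ} {t : G} (m : (t0, t) ∈ NN Δ z) (e : CQ t0) : t = 1 ∨ t = z :=
  B.cent t (NN.c m) fun _ hu => (B.lift hu).elim fun _ mu =>
    B.cm m mu (comm_clo (fun w hw => (e w hw).symm) _ (B.mem mu).1).symm

omit [Finite G] in
theorem B1.L2 {t0 t0' : ΓQ} {t t' : G} (m : (t0, t) ∈ NN Δ z) (m' : (t0', t') ∈ NN Δ z)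
    (e : CQ (t0'⁻¹ * t0)) : t = t' ∨ t = t' * z :=
  (B.L1 (pm_mul (pm_inv m') m) e).imp (fun e => (inv_mul_eq_one.mp e).symm)
    inv_mul_eq_iff_eq_mul.mp

omit [Finite G] in
theorem B1.L3 {t0 t0' : ΓQ} {t t' : G} (m : (t0, t) ∈ NN Δ z) (m' : (t0', t') ∈ NN Δ z)
    (e : t0 = t0') : t = t' ∨ t = t' * z := B.L2 m m' (by simp [e, CQ])

omit [Finite G] in
theorem B1.sqz {t t' : G} (e : t = t' ∨ t = t' * z) (c : t' * z = z * t') : t * t = t' * t' := by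
  rcases e with rfl | rfl
  · rfl
  · rw [mul_assoc, ← mul_assoc z, ← c, mul_assoc, B.z2, mul_one]

theorem B1.zN : ((1 : ΓQ), z) ∈ NN Δ z := NN.mk (mem_normalizer_of_conj_mem fun p hp => by
  have e : ((1 : ΓQ), z) * p * ((1 : ΓQ), z)⁻¹ = p :=
    Prod.ext (by simp) (cj_of_comm (B.le _ (B.mem (u0 := p.1) (u := p.2) hp).2).symm)
  rwa [e]) rfl

omit [Finite G] in
theorem B1.adj1 {γ : ΓV} {t0 : ΓQ} {t : G} (cp : Cp γ t0) (m : (γ, t) ∈ Λ) :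
    ∃ q0 ∈ clo gQ, (t0 * q0, t) ∈ NN Δ z :=
  (B.adj cp m).imp fun _ e => ⟨e.1, NN.mk e.2 (B.lz m)⟩

omit [Finite G] in
theorem B1.adj2 {γ : ΓV} {t0 : ΓQ} (cp : Cp γ t0) (hγ : γ ∈ clo gO) :
    ∃ t, (t0, t) ∈ NN Δ z := by
  obtain ⟨t, m⟩ := B.ldown hγ
  obtain ⟨q0, h1, h2⟩ := B.adj1 cp m
  obtain ⟨q, mq⟩ := B.down h1
  exact ⟨t * q⁻¹, by simpa using pm_mul h2 (pm_inv (B.leN mq))⟩

theorem B1.sgn {a0 t0 : ΓQ} {a t : G} (ma : (a0, a) ∈ NN Δ z) (m : (t0, t) ∈ NN Δ z)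
    (e : (a0 * t0) ^ 3 = 1) : ∃ t', (t0, t') ∈ NN Δ z ∧ (a * t') ^ 3 = 1 := by
  rcases B.L1 (t := (a * t) ^ 3) (by gm) (by rw [e]; simp [CQ]) with e1 | e1
  · exact ⟨t, m, e1⟩
  · refine ⟨t * z, by simpa using pm_mul m B.zN, ?_⟩
    rw [← mul_assoc, Commute.mul_pow (NN.c (pm_mul ma m)), e1, ← pow_succ', show 3 + 1 = 2 * 2 from rfl,
      pow_mul, pow_two z, B.z2, one_pow]

omit [Finite G] in
theorem B1.rel : f * f = 1 ∧ f * z = z * f ∧ g * z = z * g ∧ g * f * g⁻¹ = z * f ∧ f ≠ 1 ∧ f ≠ z ∧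
    g * g = 1 ∧ c * c = 1 ∧ c * z = z * c ∧ c * f = f * c ∧ c * g = g * c ∧ c * h * (c * h) = z ∧
    h * h = 1 := by
  obtain ⟨mf, mg, mc, mh, mi, mj, mz⟩ := B.m
  refine ⟨?_, ?_, ?_, ?_, fun e => absurd (B.inj.eq mf pm_one e) (by decide +kernel),
    fun e => absurd (B.inj.eq mf mz e) (by decide +kernel), ?_, ?_, ?_, ?_, ?_, ?_, ?_⟩ <;>
  exact B.fn.eq (by gm) (by gm) (by decide +kernel)

theorem B1.syl5 {J : Subgroup G} (hJ : J ≤ centralizer {z}) {x y : G} (hx : x ∈ J) (hy : y ∈ J)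
    (ox : orderOf x = 5) (oy : orderOf y = 5) : ∃ m ∈ J, m * x * m⁻¹ ∈ zpowers y :=
  MX.conj_zp (by norm_num) hx hy ox oy fun e => by
    have := e.trans (card_dvd_of_le hJ)
    rw [B.cardH] at this
    omega

end

/-- lifts of the generators of `A₅` -/
structure B2 (z f g c h i j e d y x : G) (Q : Subgroup G) (Λ : Subgroup (ΓV × G))
    (Δ : Subgroup (ΓQ × G)) : Prop extends B1 z f g c h i j Q Λ Δ where
  me : (e0, e) ∈ NN Δ z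
  md : (d0, d) ∈ NN Δ z
  my : (y0, y) ∈ NN Δ z
  y3 : y ^ 3 = 1
  ye : (y * e) ^ 3 = 1
  ed : (e * d) ^ 3 = 1
  hx : x = (d * e * y) ^ 6

theorem B1.b2 (B : B1 z f g c h i j Q Λ Δ) : ∃ e d y x, B2 z f g c h i j e d y x Q Λ Δ := by
  obtain ⟨e, me⟩ := B.adj2 fC.1 (memG _ (by simp))
  obtain ⟨d, md⟩ := B.adj2 fC.2.1 (memG _ (by simp))
  obtain ⟨y, my⟩ := B.adj2 fC.2.2.1 (memG _ (by simp))
  obtain ⟨y, my, y3⟩ := B.sgn pm_one my (by decide +kernel)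
  obtain ⟨e, me, ye⟩ := B.sgn my me (by decide +kernel)
  obtain ⟨d, md, ed⟩ := B.sgn me md (by decide +kernel)
  exact ⟨e, d, y, _, B, me, md, my, by simpa using y3, ye, ed, rfl⟩

variable {e d y x : G} (B : B2 z f g c h i j e d y x Q Λ Δ)
include B

omit [Finite G] in
theorem B2.lam : (env, e) ∈ Λ ∧ (dv, d) ∈ Λ ∧ (yv, y) ∈ Λ ∧ (xv, x) ∈ Λ := by
  have h1 := B.back fC.1 (memG _ (by simp)) B.me.1 (NN.c B.me)
  have h2 := B.back fC.2.1 (memG _ (by simp)) B.md.1 (NN.c B.md)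
  have h3 := B.back fC.2.2.1 (memG _ (by simp)) B.my.1 (NN.c B.my)
  refine ⟨h1, h2, h3, ?_⟩
  rw [B.hx, show xv = (dv * env * yv) ^ 6 by decide +kernel]
  gm

omit [Finite G] in
theorem B2.mx : (x0, x) ∈ NN Δ z ∧ x ^ 5 = 1 ∧ orderOf x = 5 := by
  have me := B.me
  have md := B.md
  have my := B.my
  have : Fact (Nat.Prime 5) := ⟨by norm_num⟩
  have e5 : x ^ 5 = 1 := by
    rw [B.hx, ← pow_mul, mul_comm, pow_mul, show 6 = 2 * 3 from rfl, pow_mul, pow_two]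
    rcases B.L1 (t := (d * e * y) ^ 5) (by gm) (by decide +kernel) with e | e <;> simp [e, B.z2]
  refine ⟨?_, e5, orderOf_eq_prime e5 fun e => absurd (B.linj _ (e ▸ B.lam.2.2.2)) (by decide +kernel)⟩
  rw [B.hx, show x0 = (d0 * e0 * y0) ^ 6 by decide +kernel]
  gm

omit [Finite G] in
theorem B2.fg {q : G} (hq : q ∈ clo [f, g]) : q ∈ Q ∧ q * e = e * q ∧ q * d = d * q ∧
    q * y = y * q ∧ q * x = x * q := by
  obtain ⟨mf, mg, -⟩ := B.m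
  have k : ∀ {t0 t}, (t0, t) ∈ NN Δ z → t0 * f0 = f0 * t0 ∧ t0 * g0 = g0 * t0 → q * t = t * q :=
    fun m e => comm_clo (by simp [B.cm m mf e.1, B.cm m mg e.2]) q hq
  exact ⟨clo_le (by simp [(B.mem mf).2, (B.mem mg).2]) hq, k B.me (by decide +kernel),
    k B.md (by decide +kernel), k B.my (by decide +kernel), k B.mx.1 (by decide +kernel)⟩

omit [Finite G] in
theorem B2.inV {u0 : ΓQ} {u : G} (m : (u0, u) ∈ Δ) (e : u0 ∈ V0) :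
    u = 1 ∨ u = z ∨ u = f ∨ u = z * f := by
  obtain ⟨mf, -, -, -, -, -, mz⟩ := B.m
  simp only [List.mem_cons, List.not_mem_nil, or_false] at e
  exact e.imp (B.fn.eq m pm_one) (Or.imp (B.fn.eq m mz) (Or.imp (B.fn.eq m mf) (B.fn.eq m (by gm))))

omit [Finite G] in
theorem B2.cx {u : G} (uz : u * z = z * u) (ux : u * x = x * u) : ∃ n < 5, ∃ q ∈ clo [f, g],
    u = x ^ n * q ∧ (q * f = f * q → q = 1 ∨ q = z ∨ q = f ∨ q = z * f) := by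
  obtain ⟨mf, mg, -⟩ := B.m
  obtain ⟨γ, h1, m⟩ := B.lex uz
  have mx := B.lam.2.2.2
  obtain ⟨n, hn, rfl⟩ := (fO B.cO γ h1).1 (cm_of (B.linj.eq (by gm) (by gm) ux))
  have hq : (x ^ n)⁻¹ * u ∈ Q := B.lker (by simpa using pm_mul (pm_inv (pm_pow (n := n) mx)) m)
  obtain ⟨q0, mq⟩ := B.lift hq
  have := (fQ q0 (B.mem mq).1).2.1 (B.cm0 B.mx.1 mq
    (((Commute.refl x).pow_right n).inv_right.mul_right ux.symm))
  exact ⟨n, hn, _, (mem_of_gr B.fn (xs := [f0, g0]) (gr_le (by simp [mf, mg])) mq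
    (list_mem rfl _ this.1)).1, by group, fun e =>
      B.inV mq (this.2 (B.inj.eq (by gm) (by gm) e))⟩

theorem B2.rho {γ : G} (h1 : γ * z * γ⁻¹ ∈ Q) (h2 : γ * z * γ⁻¹ ≠ z) :
    ∃ ρ, ρ * x = x * ρ ∧ ρ * z * ρ⁻¹ = f ∧ ρ * f * ρ⁻¹ = z * f := by
  obtain ⟨f2, fz, gz, gf, f1, fn, -⟩ := B.rel
  obtain ⟨mx, x5, ox⟩ := B.mx
  have xz := NN.c mx
  have xf := (B.fg (mem_clo (by simp : f ∈ [f, g]))).2.2.2.2.symm
  have sq : ∀ γ : G, γ * z * γ⁻¹ * (γ * z * γ⁻¹) = 1 ∧ γ * z * γ⁻¹ ≠ 1 := fun γ =>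
    ⟨by rw [conj_mul, B.z2]; simp, by simpa using B.z1⟩
  have oc : ∀ γ : G, orderOf (γ * x * γ⁻¹) = 5 := fun γ =>
    (MulEquiv.orderOf_eq (MulAut.conj γ) x).trans ox
  have cz := fun {u : G} => (mem_centralizer_singleton_iff (g := z) (k := u))
  obtain ⟨γ, e1⟩ : ∃ γ, γ * f * γ⁻¹ = z ∧ ∃ γ', γ' * z * γ'⁻¹ = f ∧ γ' = γ⁻¹ := by
    obtain ⟨t, tz, e⟩ := ((B.inv h1 (sq γ).1).resolve_left (sq γ).2).resolve_left h2
    exact ⟨γ⁻¹ * t, by rw [cj_mul', e]; group, _, by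
      rw [mul_inv_rev, inv_inv, cj_mul', ← e]; group, rfl⟩
  obtain ⟨e1, _, e2, rfl⟩ := e1
  have wz : γ * z * γ⁻¹ * z = z * (γ * z * γ⁻¹) := by
    have := cj_comm (g := γ) fz.symm
    rwa [e1] at this
  obtain ⟨m, hm, e3⟩ := B.syl5 le_rfl (cz.2 xz) (y := γ * x * γ⁻¹) (cz.2 (e1 ▸ cj_comm xf)) ox (oc γ)
  have wQ : γ * z * γ⁻¹ ∈ Q := by
    have e4 : Commute (m * x * m⁻¹) (γ * z * γ⁻¹) := by
      obtain ⟨k, e⟩ := mem_zpowers_iff.mp e3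
      exact e ▸ Commute.zpow_left (cj_comm xz) k
    obtain ⟨n, -, q, hq, e5, -⟩ := B.cx (u := m⁻¹ * (γ * z * γ⁻¹) * m⁻¹⁻¹)
      (cz.1 (mul_mem (mul_mem (inv_mem hm) (cz.2 wz)) (inv_mem (inv_mem hm))))
      (by simpa [mul_assoc] using cj_comm (g := m⁻¹) e4.symm.eq)
    have e6 : m⁻¹ * (γ * z * γ⁻¹) * m⁻¹⁻¹ = q ^ 5 := by
      have := congrArg (· ^ 5) e5
      rwa [(Commute.pow_left (B.fg hq).2.2.2.2.symm n).mul_pow, ← pow_mul, mul_comm n, pow_mul, x5,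
        one_pow, one_mul, ← cj_mul', conj_pow, show z ^ 5 = z by
          rw [show 5 = 2 * 2 + 1 from rfl, pow_succ, pow_mul, pow_two z, B.z2, one_pow, one_mul],
        cj_mul'] at this
    have := B.norm m (cz.1 hm) _ (pow_mem (B.fg hq).1 5)
    rwa [← e6, ← cj_mul', mul_inv_cancel, one_mul, inv_one, mul_one] at this
  obtain ⟨t, tz, e4⟩ := ((B.inv wQ (sq γ).1).resolve_left (sq γ).2).resolve_left fun e =>
    fn (by rw [← e2]; conv_lhs => rw [← e]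
           group)
  obtain ⟨ρ, r1, r2⟩ : ∃ ρ, ρ * z * ρ⁻¹ = f ∧ ρ * f * ρ⁻¹ = z * f := by
    have e5 : γ⁻¹ * t * z * (γ⁻¹ * t)⁻¹ = f := by rw [cj_mul', cj_of_comm tz, e2]
    have e6 : γ⁻¹ * t * f * (γ⁻¹ * t)⁻¹ = z := by rw [cj_mul', e4]; group
    exact ⟨γ⁻¹ * t * g, by rw [cj_mul', cj_of_comm gz, e5], by
      rw [cj_mul', gf, ← conj_mul, e5, e6, fz]⟩
  have cc := cyc_comm r1 r2 f2 xz xf
  obtain ⟨δ, hδ, e5⟩ := B.syl5 (J := centralizer {z} ⊓ centralizer {f}) inf_le_left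
    (mem_inf.2 ⟨cz.2 cc.1, mem_centralizer_singleton_iff.2 cc.2⟩)
    (mem_inf.2 ⟨cz.2 xz, mem_centralizer_singleton_iff.2 xf⟩) (oc ρ) ox
  have d1 := cj_of_comm (cz.1 hδ.1)
  have d2 := cj_of_comm (mem_centralizer_singleton_iff.1 hδ.2)
  have s1 : δ * ρ * z * (δ * ρ)⁻¹ = f := by rw [cj_mul', r1, d2]
  have s2 : δ * ρ * f * (δ * ρ)⁻¹ = z * f := by rw [cj_mul', r2, ← conj_mul, d1, d2]
  have s3 := cyc s1 s2 f2 fz
  rw [← cj_mul'] at e5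
  generalize δ * ρ = σ at s1 s2 s3 e5
  have p4 : ∀ u, σ ^ 4 * u * (σ ^ 4)⁻¹ = σ * (σ * (σ * (σ * u * σ⁻¹) * σ⁻¹) * σ⁻¹) * σ⁻¹ := fun u => by
    simp only [pow_succ, pow_zero, one_mul, cj_mul']
  refine ⟨σ ^ 4, comm_of_cj ?_, by rw [p4, s1, s2, s3, s1], by rw [p4, s2, s3, s1, s2]⟩
  classical
  obtain ⟨n, hn, e6⟩ := Finset.mem_image.mp (mem_zpowers_iff_mem_range_orderOf.mp e5)
  rw [ox, Finset.mem_range] at hn
  have n0 : n ≠ 0 := by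
    rintro rfl
    have := oc σ
    rw [← e6] at this
    simp at this
  simp only [p4, ← e6, ← conj_pow, ← pow_mul]
  conv_rhs => rw [← pow_one x]
  rw [pow_eq_pow_iff_modEq, ox]
  interval_cases n <;> first | exact absurd rfl n0 | decide

end Cfsg.Agent.SZ
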