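/-
The split subgroup `Q : A₅` and an element of order three fusing the four-group.
-/
import Cfsg.Agent.SZ.B

set_option autoImplicit false
set_option maxRecDepth 100000

namespace Cfsg.Agent.SZ

open HJ HX Subgroup PLoc

variable {G : Type*} [Group G] [Finite G] {z f g c h i j e d y x : G} {Q : Subgroup G}
  {Λ : Subgroup (ΓV × G)} {Δ : Subgroup (ΓQ × G)}

omit [Finite G] in
theorem B1.lq (B : B1 z f g c h i j Q Λ Δ) {γ : ΓV} {t u : G} (m : (γ, t) ∈ Λ) (m' : (γ, u) ∈ Λ) :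
    ∃ q0 q, (q0, q) ∈ Δ ∧ t = u * q :=
  (B.lift (B.lker (t := u⁻¹ * t) (by simpa using pm_mul (pm_inv m') m))).imp fun _ mq =>
    ⟨_, mq, by group⟩

omit [Finite G] in
theorem B2.eps (B : B2 z f g c h i j e d y x Q Λ Δ) {ρ : G} (r0 : ρ * x = x * ρ)
    (r1 : ρ * z * ρ⁻¹ = f) (r2 : ρ * f * ρ⁻¹ = z * f) :
    e * e = 1 ∧ d * d = 1 ∧ y * d * (y * d) = 1 := by
  obtain ⟨f2, fz, -, -, f1, fn, -⟩ := B.rel
  obtain ⟨mx, x5, -⟩ := B.mx
  have me := B.me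
  have md := B.md
  have my := B.my
  have mt : (d0 * y0, d * y) ∈ NN Δ z := by gm
  have k : ∀ {m0 m t0 t}, (m0, m) ∈ NN Δ z → (t0, t) ∈ NN Δ z → t0 = m0 * e0 * m0⁻¹ →
      t * t = m * (e * e) * m⁻¹ := fun mm mt e1 => by
    rw [B.sqz (B.L3 mt (by gm) e1) (NN.c (t0 := _ * e0 * _) (by gm)), conj_mul]
  suffices t2 : d * y * (d * y) = 1 by
    have e2 : e * e = 1 := conj_eq_one_iff.mp
      ((k (m := y * e * d) (by gm) mt (by decide +kernel)).symm.trans t2)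
    exact ⟨e2, by simpa [e2] using k (m := e * d) (by gm) md (by decide +kernel),
      by simpa [e2] using k (m := y⁻¹ * e * d) (t := y * d) (by gm) (by gm) (by decide +kernel)⟩
  have tx : d * y * x * (d * y)⁻¹ = x⁻¹ := sgn_odd (n := 2) (B.L3 (by gm) (by gm) (by decide +kernel))
    B.z2 B.z1 (NN.c (pm_inv mx)) (by rw [conj_pow, x5]; simp) (by rw [inv_pow, x5, inv_one])
  have tf : d * y * f = f * (d * y) := B.cm mt B.m.1 (by decide +kernel)
  have tq : ∀ q ∈ clo [f, g], Commute q (d * y) := fun q hq =>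
    Commute.mul_right (B.fg hq).2.2.1 (B.fg hq).2.2.2.1
  have t2 := B.L1 (pm_mul mt mt) (by decide +kernel)
  have tz := NN.c mt
  generalize d * y = t at *
  have tx' : ρ * t * ρ⁻¹ * x * (ρ * t * ρ⁻¹)⁻¹ = x⁻¹ := by
    conv_lhs => rw [← cj_of_comm r0, conj_mul, conj_inv, conj_mul, tx, ← conj_inv, cj_of_comm r0]
  obtain ⟨n, -, q, hq, e1, -⟩ := B.cx (u := t⁻¹ * (ρ * t * ρ⁻¹))
    (Commute.mul_left (Commute.inv_left tz) (cyc_comm r1 r2 f2 tz tf).1)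
    (comm_of_cj (by rw [cj_mul', tx', ← tx]; group))
  refine t2.resolve_right fun t2 => ?_
  have e2 : f = z * (q * q) := by
    have c1 : Commute q (x ^ n) := Commute.pow_right (B.fg hq).2.2.2.2 n
    have c2 : t * x ^ n * t⁻¹ = (x ^ n)⁻¹ := by rw [← conj_pow, tx, inv_pow]
    rw [← r1, ← t2, ← conj_mul, inv_mul_eq_iff_eq_mul.mp e1]
    calc _ = t * x ^ n * (q * (t * x ^ n)) * q := by group
      _ = t * x ^ n * t⁻¹ * (t * t) * x ^ n * (q * q) := by rw [((tq q hq).mul_right c1).eq]; group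
      _ = _ := by rw [c2, t2, (Commute.pow_left (NN.c mx) n).inv_left.eq]; group
  rcases B.sq q (B.fg hq).1 with e3 | e3 <;> rw [e3] at e2
  exacts [fn (by simpa using e2), f1 (e2.trans B.z2)]

/-- the split subgroup -/
structure B3 (z f g c h i j e d y x : G) (Q : Subgroup G) (Λ : Subgroup (ΓV × G))
    (Δ Δ' : Subgroup (ΓQ × G)) : Prop extends B2 z f g c h i j e d y x Q Λ Δ where
  hfn : Fn Δ'
  hinj : Inj Δ'
  hle : Δ ≤ Δ'
  hN : Δ' ≤ NN Δ z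
  ne : (e0, e) ∈ Δ'
  nd : (d0, d) ∈ Δ'
  ny : (y0, y) ∈ Δ'

omit [Finite G] in
theorem B2.b3 (B : B2 z f g c h i j e d y x Q Λ Δ)
    (ε : e * e = 1 ∧ d * d = 1 ∧ y * d * (y * d) = 1) :
    ∃ Δ', B3 z f g c h i j e d y x Q Λ Δ Δ' := by
  obtain ⟨mf, mg, mc, mh, mi, mj, mz⟩ := B.m
  have sH := satH
  simp only [Sat, cH.RL, List.forall_mem_append] at sH
  have am : AllM Δ gH [f, g, c, h, i, j, z, e, d, y] (List.range 7) :=
    ⟨mf, mg, mc, mh, mi, mj, mz, trivial⟩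
  have sat : Sat cH.RL [f, g, c, h, i, j, z, e, d, y] := by
    refine Sat.append (Sat.append (Sat.tr B.fn am (by decide) sH.1.1) (Sat.act B.fn am
      (J := [7, 8, 9]) ⟨B.me.1, B.md.1, B.my.1, trivial⟩ (by decide) sH.1.2)) ?_
    have h1 := B.y3
    have h2 := B.ye
    have h3 := B.ed
    simp only [pow_succ, pow_zero, one_mul, mul_assoc] at h1 h2 h3 ε
    simp [Sat, cH.R3, atm, h1, h2, h3, ε]
  have fn := fn_of_le (leH (satH.zip sat)) chH_card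
  have l := B.leN
  have hN : gr gH [f, g, c, h, i, j, z, e, d, y] ≤ NN Δ z := gr_le (by
    simp [l mf, l mg, l mc, l mh, l mi, l mj, l mz, B.me, B.md, B.my])
  refine ⟨_, B, fn, fun u m => (fH u (gr_mem m).1 fun w hw => ?_).resolve_right fun e1 =>
    B.z1 (fn.eq m (mem_clo (by simp)) e1).symm, B.eΔ ▸ HL.clo_sub (by simp), hN, mem_clo (by simp),
    mem_clo (by simp), mem_clo (by simp)⟩
  obtain ⟨w', m'⟩ := B.down (mem_clo hw)
  exact B.cm0 (hN m) m' (by simp)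

variable {Δ' : Subgroup (ΓQ × G)} (B : B3 z f g c h i j e d y x Q Λ Δ Δ')
include B

omit [Finite G] in
theorem B3.n : (f0, f) ∈ Δ' ∧ (g0, g) ∈ Δ' ∧ (c0, c) ∈ Δ' ∧ (h0, h) ∈ Δ' ∧ (i0, i) ∈ Δ' ∧
    (j0, j) ∈ Δ' ∧ (z0, z) ∈ Δ' ∧ (e0, e) ∈ Δ' ∧ (d0, d) ∈ Δ' ∧ (y0, y) ∈ Δ' ∧ (x0, x) ∈ Δ' := by
  obtain ⟨mf, mg, mc, mh, mi, mj, mz⟩ := B.m
  have ne := B.ne
  have nd := B.nd
  have ny := B.ny
  refine ⟨B.hle mf, B.hle mg, B.hle mc, B.hle mh, B.hle mi, B.hle mj, B.hle mz, ne, nd, ny, ?_⟩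
  rw [B.hx, show x0 = (d0 * e0 * y0) ^ 6 by decide +kernel]
  gm

omit [Finite G] in
theorem B3.cA {u : G} (uz : u * z = z * u) (ux : u * x = x * u) (ue : u * e = e * u)
    (uf : u * f = f * u) : u = 1 ∨ u = z ∨ u = f ∨ u = z * f := by
  obtain ⟨-, -, -, -, -, -, -, ne, -, -, nx⟩ := B.n
  obtain ⟨n, hn, q, hq, rfl, k⟩ := B.cx uz ux
  obtain rfl := (by decide +kernel : ∀ n < 5, x0 ^ n * e0 = e0 * x0 ^ n → n = 0) n hn
    (B.hinj.eq (by gm) (by gm) (by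
      simpa using (Commute.mul_left ue (Commute.inv_left (B.fg hq).2.1)).eq))
  simp only [pow_zero, one_mul] at *
  exact k uf

theorem B3.p {ρ : G} (r0 : ρ * x = x * ρ) (r1 : ρ * z * ρ⁻¹ = f) (r2 : ρ * f * ρ⁻¹ = z * f) :
    ∃ p, p * p * p = 1 ∧ p * z * p⁻¹ = f ∧ p * f * p⁻¹ = z * f ∧ g * p * (g * p) = 1 ∧
      p * e = e * p ∧ p * d = d * p ∧ p * y = y * p := by
  obtain ⟨f2, fz, gz, gf, f1, fn, g2, -⟩ := B.rel
  obtain ⟨nf, ng, -, -, -, -, -, ne, nd, ny, nx⟩ := B.n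
  obtain ⟨le, -, -, lx⟩ := B.lam
  have xz := NN.c B.mx.1
  obtain ⟨-, fe, -, -, xf⟩ := B.fg (mem_clo (by simp : f ∈ [f, g]))
  obtain ⟨-, ge, -, -, gx⟩ := B.fg (mem_clo (by simp : g ∈ [f, g]))
  obtain ⟨p, p0, p1, p2, p3⟩ : ∃ p, p * x = x * p ∧ p * z * p⁻¹ = f ∧ p * f * p⁻¹ = z * f ∧
      p * e = e * p := by
    obtain ⟨h1, h2⟩ := cyc_comm r1 r2 f2 (NN.c B.me) fe.symm
    have h3 : ρ * e * ρ⁻¹ * (ρ * e * ρ⁻¹) = 1 := by
      rw [conj_mul, B.hfn.eq (y := e * e) (by gm) pm_one (by decide +kernel)]; simp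
    have h4 : (ρ * e * ρ⁻¹ * x) ^ 3 = 1 := by
      rw [← cj_of_comm r0, conj_mul, conj_pow,
        B.hfn.eq (y := (e * x) ^ 3) (by gm) pm_one (by decide +kernel)]; simp
    obtain ⟨γ, hγ, m⟩ := B.lex h1
    obtain ⟨n, -, rfl⟩ := ((fO B.cO γ hγ).2.1 (sq_of (B.linj.eq (by gm) pm_one h3))).2
      (by simpa [show f0.ap 0 % 64 = 1 by decide +kernel] using B.fix m B.m.1 h2)
      (B.linj.eq (by gm) pm_one h4)
    obtain ⟨q0, q, mq, e1⟩ := B.lq (t := (x ^ n)⁻¹ * (ρ * e * ρ⁻¹) * (x ^ n)⁻¹⁻¹) (by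
      simpa [mul_assoc] using pm_mul (pm_mul (pm_inv (pm_pow (n := n) lx)) m) (pm_pow (n := n) lx)) le
    have nq := B.hle mq
    have c1 : Commute (x ^ n)⁻¹ x := ((Commute.refl x).pow_left n).inv_left
    obtain rfl := ((fQ q0 (B.mem mq).1).2.2.1 (B.hinj.eq (by gm) pm_one (by
      rw [← e1, conj_mul, h3]; simp))).1 (B.hinj.eq (by gm) pm_one (by
        rw [← e1, show (x ^ n)⁻¹ * (ρ * e * ρ⁻¹) * (x ^ n)⁻¹⁻¹ * x =
          (x ^ n)⁻¹ * (ρ * e * ρ⁻¹ * x) * (x ^ n)⁻¹⁻¹ by group, conj_pow, h4]; simp))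
    have c2 := cj_of_comm (Commute.pow_left xz n).inv_left.eq
    have c3 := cj_of_comm (Commute.pow_left xf.symm n).inv_left.eq
    exact ⟨(x ^ n)⁻¹ * ρ, c1.mul_left r0, by rw [cj_mul', r1, c3], by
      rw [cj_mul', r2, ← conj_mul, c2, c3], comm_of_cj (by
        rw [cj_mul', e1, B.fn q mq, mul_one])⟩
  have p4 := cyc p1 p2 f2 fz
  have zf : z * f ≠ f := by simpa using B.z1
  have zf' : z ≠ z * f := by simpa using f1
  have p5 : p * p * p = 1 := by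
    have c := cj_of_comm (((Commute.refl p).mul_right (Commute.refl p)).mul_right (Commute.refl p)).eq
    rcases B.cA (u := p * p * p) (comm_of_cj (by rw [cj_mul', cj_mul', p1, p2, p4]))
      (Commute.mul_left (Commute.mul_left p0 p0) p0) (Commute.mul_left (Commute.mul_left p3 p3) p3)
      (comm_of_cj (by rw [cj_mul', cj_mul', p2, p4, p1])) with e1 | e1 | e1 | e1 <;> rw [e1] at c
    exacts [e1, absurd (p1.symm.trans c) fn, absurd (p2.symm.trans c) zf,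
      absurd (p4.symm.trans c) zf']
  have g1 : g * p * z * (g * p)⁻¹ = z * f := by rw [cj_mul', p1, gf]
  have g3 : g * p * f * (g * p)⁻¹ = f := by
    rw [cj_mul', p2, ← conj_mul, gf, cj_of_comm gz, ← mul_assoc, B.z2, one_mul]
  have g4 : g * p * (z * f) * (g * p)⁻¹ = z := by rw [cj_mul', p4, cj_of_comm gz]
  have dy : ∀ u, u * x = x * u → u * e = e * u → u * d = d * u ∧ u * y = y * u := fun u h1 h2 => by
    have k : ∀ {t0 t}, (t0, t) ∈ Δ' → t0 ∈ [d0, y0] → u * t = t * u := fun m ht =>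
      (comm_clo (by simp [h1, h2]) _ (mem_of_gr B.hfn (xs := [x0, e0]) (ys := [x, e])
        (gr_le (by simp [nx, ne])) m (list_mem (W := Wxe) (by decide +kernel) _ ht)).1).symm
    exact ⟨k nd (by simp), k ny (by simp)⟩
  have c := cj_of_comm ((Commute.refl (g * p)).mul_right (Commute.refl (g * p))).eq
  rcases B.cA (u := g * p * (g * p)) (comm_of_cj (by rw [cj_mul', g1, g4]))
    (Commute.mul_left (Commute.mul_left gx p0) (Commute.mul_left gx p0))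
    (Commute.mul_left (Commute.mul_left ge p3) (Commute.mul_left ge p3))
    (comm_of_cj (by rw [cj_mul', g3, g3])) with e1 | e1 | e1 | e1
  · exact ⟨p, p5, p1, p2, e1, p3, dy p p0 p3⟩
  · rw [e1] at c; exact absurd (g1.symm.trans c).symm zf'
  · have ez := (NN.c B.me).symm
    refine ⟨p * z, ?_, by rw [mul_assoc p, B.z2, mul_one, mul_inv_rev, inv_eq_of_sq B.z2, ← mul_assoc, p1],
      by rw [cj_mul', cj_of_comm fz.symm, p2], ?_, Commute.mul_left p3 ez,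
      dy _ (Commute.mul_left p0 xz.symm) (Commute.mul_left p3 ez)⟩
    · calc _ = p * z * p⁻¹ * (p * (p * z * p⁻¹) * p⁻¹) * (p * p * p) * z := by group
        _ = 1 := by rw [p1, p2, p5, mul_one, ← mul_assoc, fz, mul_assoc z, f2, mul_one, B.z2]
    · calc _ = g * p * z * (g * p)⁻¹ * (g * p * (g * p)) * z := by group
        _ = 1 := by rw [g1, e1, mul_assoc z, f2, mul_one, B.z2]
  · rw [e1] at c; exact absurd (g4.symm.trans c) zf'

end Cfsg.Agent.SZ
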