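/-
Further elements: the Sylow subgroup of the centraliser of a subgroup `S₃`.
-/
import Cfsg.Agent.SZ.C

set_option autoImplicit false
set_option maxRecDepth 100000

namespace Cfsg.Agent.SZ

open HJ HX Subgroup PLoc

variable {G : Type*} [Group G]

/-- the element of order three -/
structure B4 (z f g c h i j e d y x p : G) (Q : Subgroup G) (Λ : Subgroup (ΓV × G))
    (Δ Δ' : Subgroup (ΓQ × G)) : Prop extends B3 z f g c h i j e d y x Q Λ Δ Δ' where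
  p3 : p * p * p = 1
  pz : p * z * p⁻¹ = f
  pf : p * f * p⁻¹ = z * f
  gp : g * p * (g * p) = 1
  pe : p * e = e * p
  pd : p * d = d * p
  py : p * y = y * p

theorem cj_sw {m ρ u : G} (h : m * ρ = ρ * m) : m * (ρ * u * ρ⁻¹) * m⁻¹ = ρ * (m * u * m⁻¹) * ρ⁻¹ := by
  rw [← cj_mul', h, cj_mul']

theorem cm_cj {m ρ u : G} (h : ρ * m = m * ρ) (h' : u * m = m * u) :
    ρ * u * ρ⁻¹ * m = m * (ρ * u * ρ⁻¹) := (Commute.mul_left h h').mul_left (Commute.inv_left h)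

variable [Finite G] {z f g c h i j e d y x p : G} {Q : Subgroup G}
  {Λ : Subgroup (ΓV × G)} {Δ Δ' : Subgroup (ΓQ × G)}

omit [Finite G] in
theorem B3.lr (B : B3 z f g c h i j e d y x Q Λ Δ Δ') {ρ : G} (h1 : ρ * e = e * ρ)
    (h2 : ρ * d = d * ρ) (h3 : ρ * y = y * ρ) (h4 : ρ * z * ρ⁻¹ ≠ z)
    (h5 : ρ * c * ρ⁻¹ * z = z * (ρ * c * ρ⁻¹)) (h6 : ρ * c * ρ⁻¹ * f = f * (ρ * c * ρ⁻¹)) :
    (rv, ρ * c * ρ⁻¹) ∈ Λ := by
  obtain ⟨nf, -, nc, nh, -, -, nz, ne, nd, ny, -⟩ := B.n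
  obtain ⟨le, -, ly, -⟩ := B.lam
  obtain ⟨γ, hγ, m⟩ := B.lex h5
  rcases (fO B.cO γ hγ).2.2.1
    (cm_of (B.linj.eq (by gm) (by gm) (cm_cj h3 (B.hfn.eq (by gm) (by gm) (by decide +kernel)))))
    (cm_of (B.linj.eq (by gm) (by gm) (cm_cj h1 (B.hfn.eq (by gm) (by gm) (by decide +kernel)))))
    with rfl | rfl | e1
  · have q1 := B.lker m
    have q2 := B.norm _ (NN.c (B.hN (by gm : (y0 * e0 * d0, y * e * d) ∈ Δ'))) _ q1
    rw [cj_sw ((Commute.mul_right h3 h1).mul_right h2).symm.eq,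
      B.hfn.eq (y := y * e * d * c * (y * e * d)⁻¹) (by gm) nh (by decide +kernel)] at q2
    have := B.comm _ q1 _ q2
    rw [conj_mul, conj_mul, B.hfn.eq (y := c * h) (y' := h * c * z) (by gm) (by gm)
      (by decide +kernel), ← conj_mul (a := h * c)] at this
    exact absurd (mul_left_cancel (this.resolve_left (by simpa using B.z1))) h4
  · exact m
  · exact absurd (by simpa [show f0.ap 0 % 64 = 1 by decide +kernel] using B.fix m B.m.1 h6) e1.1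

variable (B : B4 z f g c h i j e d y x p Q Λ Δ Δ')
include B

theorem B4.r : (rv, p * c * p⁻¹) ∈ Λ ∧ (r0, p * c * p⁻¹) ∈ NN Δ z ∧
    p * (p * c * p⁻¹) * p⁻¹ = p * c * p⁻¹ * c := by
  obtain ⟨f2, fz, gz, gf, f1, fn, g2, c2, cz, cf, cg, ch, h2⟩ := B.rel
  obtain ⟨mf, mg, mc, mh, mi, mj, mz⟩ := B.m
  obtain ⟨nf, -, nc, nh, ni, nj, nz, ne, nd, ny, -⟩ := B.n
  have p1 := B.pz
  have p2 := B.pf
  have p4 := cyc p1 p2 f2 fz
  have iv : ∀ {u v : G}, p * u * p⁻¹ = v → p⁻¹ * v * p⁻¹⁻¹ = u := fun e => by rw [← e]; group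
  have pp : ∀ u, p * (p * u * p⁻¹) * p⁻¹ = p⁻¹ * u * p⁻¹⁻¹ := fun u => by
    rw [← cj_mul', eq_inv_of_mul_eq_one_left B.p3]
  have zf' : z * f ≠ z := by simpa using f1
  obtain ⟨rz, rf⟩ := cyc_comm p1 p2 f2 cz cf
  have rz' : p⁻¹ * c * p⁻¹⁻¹ * z = z * (p⁻¹ * c * p⁻¹⁻¹) := iv p1 ▸ cj_comm cf
  have rf' : p⁻¹ * c * p⁻¹⁻¹ * f = f * (p⁻¹ * c * p⁻¹⁻¹) :=
    iv p2 ▸ cj_comm (Commute.mul_right cz cf)
  have l1 := B.lr B.pe B.pd B.py (p1 ▸ fn) rz rf
  have l2 := B.lr (Commute.inv_left B.pe) (Commute.inv_left B.pd) (Commute.inv_left B.py)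
    (iv p4 ▸ zf') rz' rf'
  have re := cm_cj B.pe (B.hfn.eq (y := c * e) (by gm) (by gm) (by decide +kernel))
  have ry := cm_cj B.py (B.hfn.eq (y := c * y) (by gm) (by gm) (by decide +kernel))
  have re' := cm_cj (Commute.inv_left B.pe) (B.hfn.eq (y := c * e) (by gm) (by gm) (by decide +kernel))
  have ry' := cm_cj (Commute.inv_left B.py) (B.hfn.eq (y := c * y) (by gm) (by gm) (by decide +kernel))
  have r2 : ∀ ρ : G, ρ * c * ρ⁻¹ * (ρ * c * ρ⁻¹) = 1 := fun ρ => by rw [conj_mul, c2]; simp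
  have a1 := pp c
  have a2 : p * (p⁻¹ * c * p⁻¹⁻¹) * p⁻¹ = c := by group
  have gr : g * (p * c * p⁻¹) * g⁻¹ = p⁻¹ * c * p⁻¹⁻¹ := by
    have : g * p * g⁻¹ = p⁻¹ := by
      rw [inv_eq_of_sq g2]; exact eq_inv_of_mul_eq_one_left (by rw [← B.gp]; group)
    rw [← conj_mul, ← conj_mul, ← conj_inv, this, cj_of_comm cg.symm]
  obtain ⟨m, m1, m2, m3, m4⟩ : ∃ m, m * p⁻¹ = p⁻¹ * m ∧ m * c * m⁻¹ = h ∧ m * h * m⁻¹ = c ∧
      m * z * m⁻¹ = z := by
    have c1 := (Commute.mul_right B.pd (Commute.inv_right B.py))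
    exact ⟨d * y⁻¹ * e * (d * y⁻¹), ((c1.mul_right B.pe).mul_right c1).inv_left.symm,
      B.hfn.eq (by gm) nh (by decide +kernel), B.hfn.eq (by gm) nc (by decide +kernel),
      B.hfn.eq (by gm) nz (by decide +kernel)⟩
  have r3 := r2 p
  have r4 := r2 p⁻¹
  generalize hr : p * c * p⁻¹ = r at *
  generalize hr' : p⁻¹ * c * p⁻¹⁻¹ = r' at *
  have rc : r * c = c * r := comm_of_cj ((B.act l1 mc mc (by decide +kernel)).resolve_right fun e1 => by
    have e2 := congrArg (fun u => p⁻¹ * u * p⁻¹⁻¹) e1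
    simp only [← conj_mul, ← conj_inv, iv hr, hr', iv p4] at e2
    have e3 : r' * c * r'⁻¹ = c * (z * f) :=
      calc _ = r'⁻¹ * (c * r' * c⁻¹) * c := by rw [inv_eq_of_sq r4]; group
        _ = _ := by rw [e2, (Commute.mul_right cz cf).eq]; group
    rcases B.act l2 mc mc (by decide +kernel) with e4 | e4 <;> rw [e3] at e4
    · exact fn (by rw [← inv_eq_of_mul_eq_one_right (mul_eq_left.mp e4), inv_eq_of_sq B.z2])
    · exact zf' (mul_left_cancel e4))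
  have rc' : r' * r = r * r' := by simpa only [a1, hr] using cj_comm (g := p) rc
  have rc'' : c * r' = r' * c := by simpa only [a1, a2] using cj_comm (g := p) rc'
  have t1 : c * r * r' = 1 := by
    have pt : p * (c * r * r') * p⁻¹ = c * r * r' := by
      rw [← conj_mul, ← conj_mul, hr, a1, a2, mul_assoc, ← rc'', ← mul_assoc, rc]
    have lc := B.lQ (B.mem mc).2
    obtain ⟨t0, mt⟩ := B.lift (B.lker (t := c * r * r') (by
      rw [show (1 : ΓV) = 1 * rv * rv by decide +kernel]; gm))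
    rcases ((fQ t0 (B.mem mt).1).2.2.2.1 (B.cm0 B.me mt (Commute.mul_left (Commute.mul_left
      (B.cm B.me mc (by decide +kernel)).symm re) re').symm).symm (B.cm0 B.my mt (Commute.mul_left
        (Commute.mul_left (B.cm B.my mc (by decide +kernel)).symm ry) ry').symm).symm).2
      (B.inj.eq (by gm) (by gm) (Commute.mul_left (Commute.mul_left cf rf) rf')) with e1 | e1
    · rcases B.inV mt e1 with e2 | e2 | e2 | e2 <;> rw [e2] at pt
      exacts [e2, absurd (p1.symm.trans pt) fn, absurd (p2.symm.trans pt) (by simpa using B.z1),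
        absurd (p4.symm.trans pt).symm zf']
    · have : r * (c * r * r') ∈ Q := by
        rw [← pt, ← hr, conj_mul, hr]
        rcases B.inV (pm_mul mc mt) e1 with e2 | e2 | e2 | e2 <;> rw [e2]
        exacts [by simp, p1 ▸ (B.mem mf).2, p2 ▸ (B.mem (pm_mul mz mf)).2, p4.symm ▸ B.zmem]
      exact absurd (B.linj.eq l1 (B.lQ ((Q.mul_mem_cancel_right (B.mem mt).2).mp this)) rfl) fG.2.2.2
  have t2 : r' = r * c := by
    rw [← inv_eq_of_mul_eq_one_right t1, mul_inv_rev, inv_eq_of_sq r3, inv_eq_of_sq c2]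
  have hf : h * f = f * h := B.fn.eq (by gm) (by gm) (by decide +kernel)
  have rh : r * h * r⁻¹ = h * f * z := (B.act l1 mh (pm_mul mh mf) (by decide +kernel)).resolve_left
    fun e1 => by
      have e2 : r * h * (r * h) = f := by
        rw [inv_eq_of_sq r3] at e1
        rw [← mul_assoc, e1, hf, mul_assoc, h2, mul_one]
      have e3 := congrArg (fun u => m * (p⁻¹ * u * p⁻¹⁻¹) * m⁻¹) e2
      simp only [← conj_mul (a := r * h) (b := p⁻¹), ← conj_mul (a := r) (b := p⁻¹), iv hr, iv p1] at e3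
      rw [← conj_mul (b := m), ← conj_mul (b := m), cj_sw m1, m2, m3, m4, hr'] at e3
      have e4 : r' * h * r' = h * f * z := by
        nth_rewrite 2 [← inv_eq_of_sq r4]
        rw [t2, cj_mul', B.fn.eq (y := c * h * c⁻¹) (y' := h * z) (by gm)
          (by gm) (by decide +kernel), ← conj_mul, e1, cj_of_comm rz]
      rw [mul_assoc h, ← mul_assoc r', e4, ← mul_assoc, ← mul_assoc, h2, one_mul] at e3
      exact f1 (by simpa using e3)
  have rg : r * g * r⁻¹ = c * g := by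
    rw [inv_eq_of_sq r3, ← mul_left_inj g⁻¹, mul_assoc r, mul_assoc r, gr, t2, ← mul_assoc, r3]
    group
  have ky : ∀ {u0 w0 : ΓQ} {u w : G}, (u0, u) ∈ Δ → (w0, w) ∈ Δ → y0 * u0 * y0⁻¹ = w0 →
      (r0 * u0 * r0⁻¹, r * u * r⁻¹) ∈ Δ → (r0 * w0 * r0⁻¹, r * w * r⁻¹) ∈ Δ := fun m1 m2 e1 m3 => by
    rw [← B.cj B.my m1 m2 e1, ← e1, cj_sw ry, cj_sw (by decide +kernel : r0 * y0 = y0 * r0)]
    exact HL.nj B.my.1 m3
  have kh : (r0 * h0 * r0⁻¹, r * h * r⁻¹) ∈ Δ := by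
    rw [rh, show r0 * h0 * r0⁻¹ = h0 * f0 * z0 by decide +kernel]; gm
  have ki := ky mh mi (by decide +kernel) kh
  have kj := ky mi mj (by decide +kernel) ki
  refine ⟨l1, NN.mk ?_ rz, t2 ▸ a1⟩
  rw [B.eΔ]
  refine norm_clo fun u hu => B.eΔ.le ?_
  simp only [List.zip_cons_cons, List.zip_nil_right, List.mem_cons, List.not_mem_nil,
    or_false] at hu
  rcases hu with rfl | rfl | rfl | rfl | rfl | rfl | rfl <;> show (r0 * _ * r0⁻¹, r * _ * r⁻¹) ∈ Δ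
  · rwa [cj_of_comm rf, show r0 * f0 * r0⁻¹ = f0 by decide +kernel]
  · rw [rg, show r0 * g0 * r0⁻¹ = c0 * g0 by decide +kernel]; gm
  · rwa [cj_of_comm rc, show r0 * c0 * r0⁻¹ = c0 by decide +kernel]
  exacts [kh, ki, kj, by
    show (r0 * z0 * r0⁻¹, r * z * r⁻¹) ∈ Δ
    rwa [cj_of_comm rz, show r0 * z0 * r0⁻¹ = z0 by decide +kernel]]

omit B [Finite G] in
theorem B3.k (B : B3 z f g c h i j e d y x Q Λ Δ Δ') : ∃ k, (k0, k) ∈ NN Δ z ∧ (kv, k) ∈ Λ ∧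
    k * y * k⁻¹ = y⁻¹ ∧ k * e = e * k ∧ k * d = d * k ∧ k * k = z := by
  obtain ⟨-, -, -, -, -, -, nz, ne, nd, ny, -⟩ := B.n
  obtain ⟨k, mk⟩ := B.adj2 fC.2.2.2.1 (memG _ (by simp))
  have me := B.me
  have md := B.md
  have my := B.my
  have o : ∀ {a0 b0 a b}, (a0, a) ∈ Δ' → (b0, b) ∈ Δ' → k0 * a0 * k0⁻¹ = b0 ∧ a0 ^ 3 = 1 ∧ b0 ^ 3 = 1 →
      k * a * k⁻¹ = b := fun ma mb e1 => by
    have na := B.hN ma
    exact sgn_odd (n := 1) (B.L3 (by gm) (B.hN mb) e1.1) B.z2 B.z1 (NN.c (B.hN mb))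
      (conj_pow.trans (conj_eq_one_iff.mpr (B.hfn.eq (pm_pow ma) pm_one e1.2.1)))
      (B.hfn.eq (pm_pow mb) pm_one e1.2.2)
  have h1 := o ny (pm_inv ny) (by decide +kernel)
  have h2 := o (pm_mul ny ne) (pm_mul (pm_inv ny) ne) (by decide +kernel)
  rw [← conj_mul, h1, mul_right_inj] at h2
  have h3 := o (pm_mul ne nd) (pm_mul ne nd) (by decide +kernel)
  rw [← conj_mul, h2, mul_right_inj] at h3
  refine ⟨k, mk, B.back fC.2.2.2.1 (memG _ (by simp)) mk.1 (NN.c mk), h1, comm_of_cj h2,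
    comm_of_cj h3, ?_⟩
  obtain ⟨t, mt⟩ := B.adj2 fC.2.2.2.2.2.2.1 (memG _ (by simp))
  obtain ⟨u, mu⟩ := B.down (list_mem (L := [u10, u20]) (W := Wu) (by decide +kernel) u10 (by simp))
  have nu := B.hle mu
  have m1 := pm_mul me (B.leN mu)
  have := B.sqz (B.L2 (t := t * k * t⁻¹) (by gm) m1 (by decide +kernel)) (NN.c m1)
  rw [conj_mul, B.hfn.eq (y := e * u * (e * u)) (by gm) nz (by decide +kernel),
    ← cj_of_comm (NN.c mt)] at this
  simpa using this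

omit B in
/-- the generators of the centraliser of `e` and `y` -/
structure B5 (z f g c h i j e d y x p k q r s : G) (Q : Subgroup G) (Λ : Subgroup (ΓV × G))
    (Δ Δ' : Subgroup (ΓQ × G)) : Prop extends B4 z f g c h i j e d y x p Q Λ Δ Δ' where
  pc : p * c * p⁻¹ = r
  pr : p * r * p⁻¹ = r * c
  lr : (rv, r) ∈ Λ
  mr : (r0, r) ∈ NN Δ z
  kf : k * f * k⁻¹ = g
  kg : k * g * k⁻¹ = f
  k2 : k * k = z
  kp : k * p * k⁻¹ = q
  q3 : q * q * q = 1
  qz : q * z * q⁻¹ = g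
  qg : q * g * q⁻¹ = z * g
  fq : f * q * (f * q) = 1
  qe : q * e = e * q
  qd : q * d = d * q
  qy : q * y = y * q
  qc : q * c * q⁻¹ = s
  qs : q * s * q⁻¹ = s * c
  ls : (sv, s) ∈ Λ
  ms : (s0, s) ∈ NN Δ z
  rs : r * s * (r * s) = z * c

theorem B4.b5 : ∃ k q r s, B5 z f g c h i j e d y x p k q r s Q Λ Δ Δ' := by
  obtain ⟨lr, mr, pr⟩ := B.r
  obtain ⟨k, mk, lk, ky, ke, kd, k2⟩ := B.k
  obtain ⟨mf, mg, mc, mh, mi, mj, mz⟩ := B.m
  obtain ⟨f2, fz, gz, gf, f1, fn, g2, c2, cz, cf, cg, ch, h2⟩ := B.rel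
  have kf := B.cj mk mf mg (by decide +kernel)
  have kg := B.cj mk mg mf (by decide +kernel)
  have kz := cj_of_comm (NN.c mk)
  have kc := B.cj mk (pm_mul mc mz) mc (by decide +kernel)
  have kc' := B.cj mk mc (pm_mul mc mz) (by decide +kernel)
  have cc : ∀ {u v u' v'}, p * u * p⁻¹ = v → k * u * k⁻¹ = u' → k * v * k⁻¹ = v' →
      k * p * k⁻¹ * u' * (k * p * k⁻¹)⁻¹ = v' := fun e1 e2 e3 => by rw [← e2, ← e3, ← e1]; group
  generalize hr : p * c * p⁻¹ = r at *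
  have nf := B.leN mf
  have lf := B.lQ (B.mem mf).2
  have ms : (s0, k * (r * f) * k⁻¹) ∈ NN Δ z := by
    rw [show s0 = k0 * (r0 * f0) * k0⁻¹ by decide +kernel]; gm
  refine ⟨k, _, r, k * (r * f) * k⁻¹, B, hr, pr, lr, mr, kf, kg, k2, rfl,
    by rw [conj_mul, conj_mul, B.p3]; simp, cc B.pz kz kf,
    cc B.pf kf (by rw [← conj_mul, kz, kf]), by rw [← kg, conj_mul, conj_mul, B.gp]; simp,
    cm_cj ke B.pe, cm_cj kd B.pd, (Commute.inv_right_iff.mp (ky ▸ cj_comm B.py)).eq,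
    cc (by rw [← conj_mul, hr, B.pz]) kc rfl, cc (v := r * f * (c * z))
      (by rw [← conj_mul, pr, B.pf, ← fz, mul_assoc, ← mul_assoc c, cf]; group) rfl
      (by rw [← conj_mul (a := r * f), kc]), ?_, ms, ?_⟩
  · rw [show sv = kv * (rv * 1) * kv⁻¹ by rw [mul_one]; exact fG.2.2.1]; gm
  · obtain ⟨t, mt⟩ := B.adj2 fC.2.2.2.2.2.2.2 (memG _ (by simp))
    obtain ⟨u, mu⟩ := B.down (list_mem (L := [u10, u20]) (W := Wu) (by decide +kernel) u20 (by simp))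
    have m1 := pm_mul B.me (B.leN mu)
    have e1 := B.sqz (B.L2 (t := t * (r * (k * (r * f) * k⁻¹)) * t⁻¹) (by gm) m1 (by decide +kernel))
      (NN.c m1)
    have nu := B.hle mu
    have ne := B.ne
    have m2 := B.hle (HL.nj mt.1 (pm_mul mz mc))
    rw [conj_mul, B.hfn.eq (y := e * u * (e * u)) (by gm) m2 (by decide +kernel)] at e1
    simpa using e1

end Cfsg.Agent.SZ
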