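/-
Recognition of `L₃(4)` from the centraliser of an involution.
-/
import Cfsg.Agent.CIT.Main
import Cfsg.Agent.HJ.StepE

set_option autoImplicit false

namespace Cfsg.Agent.SZ

open Cfsg.Agent.BG Cfsg.Agent.Inv Cfsg.Agent.CIT Subgroup
open HJ (cj_of_comm comm_of_cj cj_comm cj_mul' eq_one_of_fpf sq_of_order)

variable {X : Type*} [Group X] [Finite X]

theorem exists_inv {N : Subgroup X} (h : ¬ ∀ t ∈ N, t * t = 1 → t = 1) :
    ∃ t ∈ N, t * t = 1 ∧ t ≠ 1 := by
  push Not at h; exact h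

theorem one_of_pow {N : Subgroup X} (h : ∀ t ∈ N, t * t = 1 → t = 1) {x : X} (hx : x ∈ N) {k : ℕ}
    (e : x ^ 2 ^ k = 1) : x = 1 := by
  induction k with
  | zero => simpa using e
  | succ k ih => exact ih (h _ (pow_mem hx _) (by rw [← pow_two, ← pow_mul, ← pow_succ, e]))

theorem l34 {z c f g p : X} (one : ∀ t, t * t = 1 → t ≠ 1 → ∃ m, m * z * m⁻¹ = t)
    (c8 : ∀ x, x * z = z * x → x ^ 2 ^ 3 = 1)
    (gen : ∀ N : Subgroup X, (∀ t, t * t = 1 → t ∈ N) → N = ⊤) (z2 : z * z = 1) (z1 : z ≠ 1)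
    (cc : ∀ x, x * z = z * x → x * c = c * x) (c1 : c ≠ 1) (cz : c ≠ z) (fz : f * z = z * f)
    (gz : g * z = z * g) (fg : f * g ≠ g * f) (hp : p * z * p⁻¹ = f) :
    Nonempty (X ≃* Gol.St 8388611 []) := by
  have f2 : f * f = 1 := by rw [← hp, conj_mul, z2]; simp
  have c8' : ∀ m x, x * (m * z * m⁻¹) = m * z * m⁻¹ * x → x ^ 2 ^ 3 = 1 := fun m x e => by
    have := cj_comm (g := m⁻¹) e
    rw [show m⁻¹ * (m * z * m⁻¹) * m⁻¹⁻¹ = z by group] at this
    exact conj_eq_one_iff.mp (conj_pow.symm.trans (c8 _ this))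
  have : Nontrivial X := ⟨z, 1, z1⟩
  have : IsSimpleGroup X := ⟨fun N hN => by
    by_cases h : ∀ t ∈ N, t * t = 1 → t = 1
    · obtain ⟨m, hm⟩ := one (z * f) (by rw [mul_assoc, ← mul_assoc f, fz, mul_assoc, f2, mul_one, z2])
        fun e => fg (by rw [← inv_eq_of_mul_eq_one_right e, HJ.inv_eq_of_sq z2, gz])
      exact Or.inl (eq_bot_iff.mpr (eq_one_of_fpf (fun x hx => hN.conj_mem x hx z)
        (fun x hx => hN.conj_mem x hx f) z2 f2 (fun x hx e => one_of_pow h hx (c8 x e))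
        (fun x hx e => one_of_pow h hx (c8' p x (hp ▸ e))) fun x hx e =>
          one_of_pow h hx (c8' m x (hm ▸ e))))
    · obtain ⟨t, h1, h2, h3⟩ := exists_inv h
      obtain ⟨m, rfl⟩ := one t h2 h3
      refine Or.inr (gen N fun u hu => ?_)
      by_cases u1 : u = 1
      · exact u1 ▸ one_mem _
      · obtain ⟨n, rfl⟩ := one u hu u1
        simpa [mul_assoc] using hN.conj_mem _ h1 (n * m⁻¹)⟩
  have hG : ∃ a b : X, a * b ≠ b * a := ⟨f, g, fg⟩
  have h : IsCIT X := cit_of fun t ht x => by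
    obtain ⟨m, rfl⟩ := one t (sq_of_order ht).1 (sq_of_order ht).2
    exact ⟨3, Subtype.ext (c8' m x (mem_C1.1 x.2))⟩
  have nt : ∀ {Y : Subgroup X}, PiG {2} Y → Y ≠ ⊤ := fun p e => not_nil_top hG (e ▸ p.nil)
  obtain ⟨S, hS, l⟩ := syl_superset p2 (le_top (a := C1[z])) (h.pigC1 (x := z) (by
    rw [← pig_zpowers]
    exact pig_of_pg p2 (PLoc.isPGroup_zpowers (k := 1) (by rw [pow_one, pow_two, z2]))) z1)
  by_cases ti : ∀ g, S ⊓ cj g S ≠ ⊥ → cj g S = S
  · have k : ∀ m, m * z * m⁻¹ ∈ S → cj m S = S := fun m e => ti m fun e' => z1 (by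
      simpa using e'.le ⟨e, mem_cj_conj.2 (l (mem_C1_self z))⟩)
    have : Nontrivial S := ⟨⟨z, l (mem_C1_self z)⟩, 1, fun e => z1 (congrArg Subtype.val e)⟩
    have := (hS.pi.pg p2).center_nontrivial
    obtain ⟨t, h1, h2, h3⟩ := exists_inv (N := (center S).map S.subtype) fun h' => by
      obtain ⟨x, x1⟩ := exists_ne (1 : center S)
      obtain ⟨n, e⟩ := hS.pi.pg p2 x
      exact x1 (Subtype.ext (Subtype.ext (one_of_pow h' ⟨x, x.2, rfl⟩ (congrArg Subtype.val e))))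
    obtain ⟨m, rfl⟩ := one t h2 h3
    obtain ⟨t, h4, h5⟩ := h1
    have k1 : ∀ x ∈ S, x * z = z * x := fun x hx => by
      have := congrArg Subtype.val (mem_center_iff.mp h4 ⟨m * x * m⁻¹,
        (k m (h5 ▸ t.2)).le (mem_cj_conj.2 hx)⟩)
      rw [coe_mul, coe_mul, show (t : X) = _ from h5] at this
      simpa [conj_mul] using this
    have := cj_comm (g := p) (k1 _ (mem_cj.1 ((k p (hp ▸ l (mem_C1.2 fz))).ge (l (mem_C1.2 gz)))))
    rw [hp, show p * (p⁻¹ * g * p) * p⁻¹ = g by group] at this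
    exact absurd this.symm fg
  push Not at ti
  obtain ⟨u, n1, n2⟩ := ti
  obtain ⟨H1, H2, R, q, e⟩ := exists_am h h.la ((BG.normal_iff.2
    (normO _ (normG ⊤))).eq_bot_or_eq_top.resolve_right (nt (O_pig _ _))) hS (hS.cj_top u) n2.symm n1
  rcases e.q_cases with rfl | rfl
  · have K := kf_of_card e.f1.cV fun _ => V_sq
    have CV := e.CV
    obtain ⟨v, hv, v1⟩ := HJ.exists_not_mem_list (Q := VV H1) [1] (by rw [e.f1.cV]; simp)
    obtain ⟨m, rfl⟩ := one v (V_sq hv) (by simpa using v1)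
    have mc : m * c * m⁻¹ ∈ VV H1 := CV.le fun w hw => by
      have := cj_comm (g := m⁻¹) (V_comm hw hv)
      rw [show m⁻¹ * (m * z * m⁻¹) * m⁻¹⁻¹ = z by group] at this
      simpa [mul_assoc] using cj_comm (g := m) (cc _ this)
    have k : ∀ w ∈ VV H1, ∀ x, x * z = z * x → m * x * m⁻¹ * w = w * (m * x * m⁻¹) :=
      fun w hw x hx => by
        by_cases e1 : w = 1
        · simp [e1]
        by_cases e2 : w = m * z * m⁻¹
        · rw [e2]; exact cj_comm hx
        by_cases e3 : w = m * c * m⁻¹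
        · rw [e3]; exact cj_comm (cc x hx)
        have := congrArg Subtype.val (IsKleinFour.eq_mul_of_ne_all (x := (⟨_, hv⟩ : VV H1))
          (y := ⟨_, mc⟩) (z := ⟨w, hw⟩) (by simpa using z1) (by simpa using c1)
          (by simpa using cz.symm) (by simpa using e1) (by simpa using e2) (by simpa using e3))
        rw [show w = _ from this, coe_mul, conj_mul]
        exact cj_comm (Commute.mul_right hx (cc x hx))
    exact absurd (by simpa [conj_mul] using (k _ (CV.le fun w hw => (k w hw f fz).symm) g gz).symm) fg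
  · obtain ⟨F, _, _, hF, ⟨φ⟩⟩ := e.psl3 (e.syl (no_index_two hG))
    obtain ⟨ψ⟩ := Gol.m21_iso F hF
    exact ⟨φ.trans ψ.symm⟩

end Cfsg.Agent.SZ
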