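/-
Enumerated facts on `M₂₁` and on the group of order `120960`.
-/
import Cfsg.Agent.SZ.MD

set_option autoImplicit false
set_option maxRecDepth 100000
set_option synthInstance.maxSize 4000

namespace Cfsg.Agent.SZ

open HJ HX Subgroup

theorem satU : Sat cU.RL gU := by decide +kernel
theorem satT : Sat cT5.RL gT := by decide +kernel

theorem yT : ∀ w ∈ [aT, bT, cT, fT, dT * cT * dT],
    (bT * cT * dT * cT * dT) ^ 5 * w = w * (bT * cT * dT * cT * dT) ^ 5 := by decide +kernel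

def PU (u : ΓM) : Prop := u * u ∈ [zM, cM, zM * cM] ∨ u = 1 ∨
  (∃ w ∈ WA, ev (atm [gM, sM, pM]) w * zM * (ev (atm [gM, sM, pM]) w)⁻¹ = u) ∨
  ∃ w ∈ WB, ev (atm [fM, rM, qM]) w * zM * (ev (atm [fM, rM, qM]) w)⁻¹ = u

noncomputable instance : DecidablePred PU := fun _ => by unfold PU; infer_instance

theorem PU_all : PC.allL (fun x => decide (PU x)) chU 1 = true := by decide +kernel

theorem fU : ∀ u ∈ clo gU, PU u :=
  (PC.Enum.of chU_ok chU_mem ((leU satU).2.trans chU_len.ge)).all PU_all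

theorem nW : (∀ n ∈ [gM, sM], ∀ x ∈ [zM, cM, fM, rM],
      n * x * n⁻¹ ∈ W1.map (ev (atm [zM, cM, fM, rM]))) ∧
    (∀ n ∈ [fM, rM], ∀ x ∈ [zM, cM, gM, sM], n * x * n⁻¹ ∈ W1.map (ev (atm [zM, cM, gM, sM]))) ∧
    (pM * zM * pM⁻¹ = fM ∧ pM * cM * pM⁻¹ = rM ∧ pM * fM * pM⁻¹ = zM * fM ∧
      pM * rM * pM⁻¹ = rM * cM) ∧ qM * zM * qM⁻¹ = gM ∧ qM * cM * qM⁻¹ = sM ∧
      qM * gM * qM⁻¹ = zM * gM ∧ qM * sM * qM⁻¹ = sM * cM := by decide +kernel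

def PM (x : ΓM) : Prop :=
  (x * zM = zM * x → x.c ∈ kU ∧ ((∀ w ∈ [fM, gM, rM, sM], x * w = w * x) →
    x = 1 ∨ x = zM ∨ x = cM ∨ x = zM * cM)) ∧
  (x * x * x = 1 → x * (x * zM * x⁻¹) * x⁻¹ = zM * (x * zM * x⁻¹) →
    (x.c, (x * zM * x⁻¹).c) ∈ kP)

noncomputable instance : DecidablePred PM := fun _ => by unfold PM; infer_instance

theorem memL : ∀ x ∈ [zM, fM, gM, rM, sM], x ∈ clo gL := list_mem (W := WL) (by decide +kernel)

theorem fM0 : zM * zM = 1 ∧ zM ≠ 1 ∧ zM * (zM * cM) = cM ∧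
    (∀ w ∈ [fM, gM, rM, sM], w * zM = zM * w) ∧ (∀ a ∈ kU, (PC.of a : ΓM).c = a) ∧
    ∀ a ∈ kP, (PC.of a.1 : ΓM).c = a.1 ∧ (PC.of a.2 : ΓM).c = a.2 := by decide +kernel

/-- the possible outcomes -/
def Out {G : Type*} [Group G] (z c f g p q b : G) : Prop :=
  (p * q) ^ 3 = 1 ∨ (p * q) ^ 4 = 1 ∨ p = ev (atm [b, f, g]) Wp ∧ q = ev (atm [b, f, g]) Wq ∧
    ∃ c' ∈ [c, z * c], Sat RL [z, c', f, g, p, q, b]

noncomputable instance (z c f g p q b : ΓM) : Decidable (Out z c f g p q b) := by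
  unfold Out; infer_instance

end Cfsg.Agent.SZ
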