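/-
An enumeration of `M₂₁`.
-/
import Cfsg.Agent.SZ.MF

set_option autoImplicit false
set_option maxRecDepth 100000
set_option synthInstance.maxSize 4000

namespace Cfsg.Agent.SZ

open HJ HX Subgroup

theorem PM_all : PC.allL (fun x => decide (PM x)) chL 1 = true := by decide +kernel

end Cfsg.Agent.SZ
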