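/-
A search in `M₂₁`.
-/
import Cfsg.Agent.SZ.MF

set_option autoImplicit false
set_option maxRecDepth 100000
set_option synthInstance.maxSize 4000

namespace Cfsg.Agent.SZ

open HJ HX Subgroup

noncomputable def srch (i : ℕ) : Bool := ((kP.drop (64 * i)).take 64).all fun a => PC.frcP (PC.of a.1 : ΓM) fun p =>
  PC.frcP (PC.of a.2 : ΓM) fun f => kU.all fun m => PC.frcP (PC.of m : ΓM) fun g =>
    decide (g * g = 1 → f * g * (f * g) = zM → g * p * (g * p) = 1 → ∀ b ∈ kP, b.2 = m →
      PC.frcP (PC.of b.1 : ΓM) (fun q => PC.frcP (p⁻¹ * q * (p⁻¹ * q)) fun b =>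
        decide (f * q * (f * q) = 1 → Out zM cM f g p q b)) = true)

theorem srch0 : srch 0 = true := by decide +kernel
theorem srch1 : srch 1 = true := by decide +kernel
theorem srch2 : srch 2 = true := by decide +kernel
theorem srch3 : srch 3 = true := by decide +kernel
theorem srch4 : srch 4 = true := by decide +kernel
theorem srch5 : srch 5 = true := by decide +kernel
theorem srch6 : srch 6 = true := by decide +kernel
theorem srch7 : srch 7 = true := by decide +kernel

end Cfsg.Agent.SZ
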