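/-
The group `M₂₁` as a coded permutation group and the outcome of the search.
-/
import Cfsg.Agent.SZ.MF2
import Cfsg.Agent.SZ.MF3
import Cfsg.Agent.SZ.L34

set_option autoImplicit false
set_option maxRecDepth 100000

namespace Cfsg.Agent.SZ

open HJ HX Subgroup PLoc

def eP : GolayPt ≃ Fin 24 :=
  ⟨fun p => ⟨Gol.idx p, Gol.idx_lt p⟩, fun i => Gol.pt i, Gol.pt_idx, fun i => Fin.ext (Gol.idx_pt i.2)⟩

theorem m21 : ∃ ψ : Gol.St 8388611 [] →* ΓM, Function.Injective ψ ∧ ψ.range = clo gL := by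
  let χ : M24 →* ΓM := (eP.permCongrHom.trans PC.equiv).toMonoidHom.comp M24.subtype
  have hχ : Function.Injective χ :=
    (eP.permCongrHom.trans PC.equiv).injective.comp M24.subtype_injective
  have i := hχ.comp (Gol.St 8388611 []).subtype_injective
  refine ⟨χ.comp (Subgroup.subtype _), i, (eq_of_le_of_card_ge (clo_le fun x hx => ?_) ?_).symm⟩
  · obtain ⟨c, h1, h2, h3⟩ := (by decide +kernel : ∀ x ∈ gL, ∃ c ∈ cL, Gol.inM c = true ∧
      (∀ i < 24, Gol.ap c i = x.ap i) ∧ ∀ i ∈ [23, 0, 1], Gol.ap c i = i) x hx |>.imp fun _ h => h.2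
    refine ⟨⟨Gol.pm c, Gol.mem_St.2 ⟨fun p hp => ?_, by simp⟩⟩, ext_ap fun i hi => ?_⟩
    · simp only [Gol.toF_f3, Finset.mem_insert, Finset.mem_singleton] at hp
      rcases hp with rfl | rfl | rfl <;> rw [Gol.pm_pt h1 (by omega), h3 _ (by simp)]
    · have e : Gol.idx (Gol.pm c • Gol.pt i) = x.ap i := by
        rw [Gol.pm_pt h1 hi, h2 i hi, Gol.idx_pt (x.ap_lt hi)]
      rw [← e]
      refine (PC.ap_ofPerm _ hi).trans ?_
      rw [pv, dif_pos hi]
      rfl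
  · rw [← Nat.card_congr (MonoidHom.ofInjective (f := χ.comp (Subgroup.subtype _)) i).toEquiv,
      Gol.card_m21]
    exact chL_card

theorem cardL : Nat.card (clo gL) = 20160 := by
  obtain ⟨ψ, h1, h2⟩ := m21
  rw [← h2, ← Nat.card_congr (MonoidHom.ofInjective h1).toEquiv, Gol.card_m21]

theorem fL : ∀ x ∈ clo gL, PM x :=
  (PC.Enum.of chL_ok chL_mem (cardL.le.trans chL_len.ge)).all PM_all

theorem out {f g p q : ΓM} (hg : g ∈ clo gL) (hp : p ∈ clo gL) (hq : q ∈ clo gL)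
    (gz : g * zM = zM * g) (g2 : g * g = 1) (fg : f * g * (f * g) = zM) (p3 : p * p * p = 1)
    (pz : p * zM * p⁻¹ = f) (pf : p * f * p⁻¹ = zM * f) (gp : g * p * (g * p) = 1)
    (q3 : q * q * q = 1) (qz : q * zM * q⁻¹ = g) (qg : q * g * q⁻¹ = zM * g)
    (fq : f * q * (f * q) = 1) : Out zM cM f g p q (p⁻¹ * q * (p⁻¹ * q)) := by
  have h1 := (fL p hp).2 p3 (by rw [pz, pf])
  have h2 := (fL q hq).2 q3 (by rw [qz, qg])
  have h3 := ((fL g hg).1 gz).1
  rw [pz] at h1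
  rw [qz] at h2
  obtain ⟨-, -, -, -, k1, k2⟩ := fM0
  obtain ⟨i, hi, h4⟩ : ∃ i ∈ List.range 8, (p.c, f.c) ∈ (kP.drop (64 * i)).take 64 :=
    List.mem_flatMap.mp ((by decide +kernel : kP = (List.range 8).flatMap
      fun i => (kP.drop (64 * i)).take 64) ▸ h1)
  have h5 : srch i = true := by
    rw [List.mem_range] at hi
    interval_cases i
    exacts [srch0, srch1, srch2, srch3, srch4, srch5, srch6, srch7]
  simp only [srch, List.all_eq_true, PC.frcP_eq, decide_eq_true_eq] at h5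
  have := h5 _ h4 _ h3
  rw [PC.ext' (k2 _ h1).1, PC.ext' (k2 _ h1).2, PC.ext' (k1 _ h3)] at this
  have := this g2 fg gp _ h2 rfl
  rw [PC.ext' (k2 _ h2).1] at this
  exact this fq

theorem Out.pull {X Y : Type*} [Group X] [Group Y] (ψ : X →* Y) (i : Function.Injective ψ)
    {z c f g p q b : X} (h : Out (ψ z) (ψ c) (ψ f) (ψ g) (ψ p) (ψ q) (ψ b)) : Out z c f g p q b := by
  refine h.imp (fun e => i (by simpa using e)) (Or.imp (fun e => i (by simpa using e))
    fun ⟨h1, h2, c', h3, h4⟩ => ⟨i (by rwa [ev_map]), i (by rwa [ev_map]), ?_⟩)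
  obtain ⟨c', h5, rfl⟩ : ∃ u ∈ [c, z * c], ψ u = c' := by simpa [eq_comm] using h3
  exact ⟨c', h5, fun l hl => i (by rw [ev_map, map_one]; exact h4 l hl)⟩

theorem Out.push {X Y : Type*} [Group X] [Group Y] (ψ : X →* Y)
    {z c f g p q b : X} (h : Out z c f g p q b) : Out (ψ z) (ψ c) (ψ f) (ψ g) (ψ p) (ψ q) (ψ b) := by
  refine h.imp (fun e => by simpa using congrArg ψ e) (Or.imp (fun e => by simpa using congrArg ψ e)
    fun ⟨h1, h2, c', h3, h4⟩ => ⟨by rw [h1, ev_map]; simp [← h1], by rw [h2, ev_map]; simp [← h2],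
      ψ c', by simpa using List.mem_map_of_mem (f := ψ) h3, fun l hl => ?_⟩)
  simpa [ev_map] using congrArg ψ (h4 l hl)

theorem Out.zc {X : Type*} [Group X] {z c f g p q b : X} (z2 : z * z = 1)
    (h : Out z c f g p q b) : Out z (z * c) f g p q b :=
  h.imp_right (Or.imp_right fun ⟨h1, h2, c', h3, h4⟩ =>
    ⟨h1, h2, c', by rw [← mul_assoc, z2, one_mul]; simpa [or_comm] using h3, h4⟩)

theorem outX {X : Type*} [Group X] [Finite X] {z c f g p q : X}
    (one : ∀ t, t * t = 1 → t ≠ 1 → ∃ m, m * z * m⁻¹ = t)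
    (c8 : ∀ x, x * z = z * x → x ^ 2 ^ 3 = 1)
    (gen : ∀ N : Subgroup X, (∀ t, t * t = 1 → t ∈ N) → N = ⊤) (z2 : z * z = 1) (z1 : z ≠ 1)
    (cc : ∀ x, x * z = z * x → x * c = c * x) (c1 : c ≠ 1) (cz : c ≠ z) (fz : f * z = z * f)
    (gz : g * z = z * g) (g2 : g * g = 1) (fg : f * g * (f * g) = z) (p3 : p * p * p = 1)
    (pz : p * z * p⁻¹ = f) (pf : p * f * p⁻¹ = z * f) (gp : g * p * (g * p) = 1)
    (q3 : q * q * q = 1) (qz : q * z * q⁻¹ = g) (qg : q * g * q⁻¹ = z * g)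
    (fq : f * q * (f * q) = 1) :
    Nat.card X = 20160 ∧ Out z c f g p q (p⁻¹ * q * (p⁻¹ * q)) := by
  obtain ⟨φ⟩ := l34 one c8 gen z2 z1 cc c1 cz fz gz (fun e => z1 (by
    have f2 : f * f = 1 := by rw [← pz, conj_mul, z2]; simp
    rw [← fg, mul_assoc, ← mul_assoc g, ← e, mul_assoc, g2, mul_one, f2])) pz
  refine ⟨(Nat.card_congr φ.toEquiv).trans Gol.card_m21, ?_⟩
  obtain ⟨ψ0, i0, r0⟩ := m21
  obtain ⟨e1, e2, e3, e4, -⟩ := fM0
  obtain ⟨ψ, i, r, hz⟩ : ∃ ψ : X →* ΓM, Function.Injective ψ ∧ ψ.range = clo gL ∧ ψ z = zM := by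
    obtain ⟨t, ht⟩ := r0.ge (memL zM (by simp))
    obtain ⟨m, hm⟩ := one (φ.symm t) (φ.injective (i0 (by simp [ht, e1]))) fun e =>
      e2 (by rw [← ht, ← φ.apply_symm_apply t, e]; simp)
    refine ⟨ψ0.comp ((MulAut.conj m).trans φ).toMonoidHom,
      i0.comp ((MulAut.conj m).trans φ).injective, ?_, ?_⟩
    · rw [MonoidHom.range_comp, MonoidHom.range_eq_top.mpr ((MulAut.conj m).trans φ).surjective,
        ← MonoidHom.range_eq_map, r0]
    · show ψ0 (φ (m * z * m⁻¹)) = _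
      rw [hm, φ.apply_symm_apply, ht]
  have mem : ∀ x, ψ x ∈ clo gL := fun x => r.le ⟨x, rfl⟩
  have tr : ∀ {a b : X}, a = b → ψ a = ψ b := congrArg ψ
  have o := out (mem g) (mem p) (mem q) (by simpa [hz] using tr gz) (by simpa using tr g2)
    (by simpa [hz] using tr fg) (by simpa using tr p3) (by simpa [hz] using tr pz)
    (by simpa [hz] using tr pf) (by simpa using tr gp) (by simpa using tr q3)
    (by simpa [hz] using tr qz) (by simpa [hz] using tr qg) (by simpa using tr fq)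
  refine Out.pull ψ i ?_
  simp only [map_mul, map_inv, hz]
  rcases ((fL _ (mem c)).1 (by simpa [hz] using (tr (cc z rfl)).symm)).2 fun w hw => by
    obtain ⟨u, rfl⟩ := r.ge (memL w (List.mem_cons_of_mem _ hw))
    simpa using (tr (cc u (i (by simpa [hz] using e4 _ hw)))).symm with e | e | e | e
  · exact absurd (i (by simpa using e)) c1
  · exact absurd (i (e.trans hz.symm)) cz
  · rwa [e]
  · exact e ▸ o.zc e1

end Cfsg.Agent.SZ
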