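/-
The subgroup `L₃(4)` in the centraliser of `S₃`.
-/
import Cfsg.Agent.SZ.D
import Cfsg.Agent.SZ.M21

set_option autoImplicit false
set_option maxRecDepth 100000

namespace Cfsg.Agent.SZ

open HJ HX Subgroup PLoc

variable {G : Type*} [Group G] [Finite G] {z f g c h i j e d y x p k q r s : G} {Q : Subgroup G}
  {Λ : Subgroup (ΓV × G)} {Δ Δ' : Subgroup (ΓQ × G)}
  (B : B5 z f g c h i j e d y x p k q r s Q Λ Δ Δ')
include B

omit [Finite G] in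
theorem B5.sat : Sat cU.RL [z, c, f, g, r, s] := by
  obtain ⟨mf, mg, mc, -, -, -, mz⟩ := B.m
  obtain ⟨-, -, -, -, -, -, -, c2, cz, -⟩ := B.rel
  have am : AllM Δ [z0, c0, f0, g0, r0, s0] [z, c, f, g, r, s] [0, 1, 2, 3] :=
    ⟨mz, mc, mf, mg, trivial⟩
  refine Sat.append (Sat.append (Sat.tr B.fn am (by decide) (by decide +kernel)) (Sat.act B.fn am
    (J := [4, 5]) ⟨B.mr.1, B.ms.1, trivial⟩ (by decide) (by decide +kernel))) ?_
  have h1 : r * r = 1 := by rw [← B.pc, conj_mul, c2]; simp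
  have h2 : s * s = 1 := by rw [← B.qc, conj_mul, c2]; simp
  have h3 : r * s * (r * s) * (z * c) = 1 := by
    rw [B.rs, mul_assoc, ← mul_assoc c, cz, mul_assoc, c2, mul_one, B.z2]
  simp only [mul_assoc] at h3
  simp [Sat, cU.R3, atm, h1, h2, h3]

omit [Finite G] in
theorem B5.ufn : Fn (gr gU [z, c, f, g, r, s]) := fn_of_le (leU (satU.zip B.sat)) chU_card

omit [Finite G] in
theorem B5.cey : (∀ u ∈ clo [z, c, f, g, p, q], u * e = e * u ∧ u * y = y * u) ∧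
    clo [z, c, f, g, r, s] ≤ clo [z, c, f, g, p, q] := by
  obtain ⟨mf, mg, mc, -, -, -, mz⟩ := B.m
  have k : ∀ {t0 t}, (t0, t) ∈ NN Δ z → (∀ w ∈ [z0, c0, f0, g0], t0 * w = w * t0) → p * t = t * p →
      q * t = t * q → ∀ u ∈ clo [z, c, f, g, p, q], u * t = t * u := fun m e1 h1 h2 =>
    comm_clo (by simp [B.cm m mz (e1 _ (by simp)), B.cm m mc (e1 _ (by simp)),
      B.cm m mf (e1 _ (by simp)), B.cm m mg (e1 _ (by simp)), h1, h2])
  refine ⟨fun u hu => ⟨k B.me (by decide +kernel) B.pe B.qe u hu,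
    k B.my (by decide +kernel) B.py B.qy u hu⟩, clo_le ?_⟩
  have m : ∀ u ∈ [z, c, f, g, p, q], u ∈ clo [z, c, f, g, p, q] := fun _ => mem_clo
  simp only [List.forall_mem_cons] at m ⊢
  obtain ⟨h1, h2, h3, h4, h5, h6, -⟩ := m
  exact ⟨h1, h2, h3, h4, B.pc ▸ mul_mem (mul_mem h5 h2) (inv_mem h5),
    B.qc ▸ mul_mem (mul_mem h6 h2) (inv_mem h6), by simp⟩

omit [Finite G] in
theorem B5.cU {u : G} (uz : u * z = z * u) (ue : u * e = e * u) (uy : u * y = y * u) :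
    u ∈ clo [z, c, f, g, r, s] := by
  obtain ⟨mf, mg, mc, -, -, -, mz⟩ := B.m
  obtain ⟨le, -, ly, -⟩ := B.lam
  obtain ⟨γ, hγ, m⟩ := B.lex uz
  have k : ∀ t ∈ clo [z, c, f, g, r, s], (γ, t) ∈ Λ → u ∈ clo [z, c, f, g, r, s] := fun t ht mt => by
    obtain ⟨w0, w, mw, e1⟩ := B.lq m mt
    obtain ⟨te, ty⟩ := B.cey.1 t (B.cey.2 ht)
    obtain rfl := inv_mul_eq_iff_eq_mul.mpr e1
    have := ((fQ w0 (B.mem mw).1).2.2.2.1
      (B.cm0 B.me mw ((Commute.inv_left te).mul_left ue).symm).symm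
      (B.cm0 B.my mw ((Commute.inv_left ty).mul_left uy).symm).symm).1
    exact e1 ▸ mul_mem ht (HL.clo_sub (by simp) (mem_of_gr B.fn (xs := [z0, c0, f0, g0])
      (ys := [z, c, f, g]) (gr_le (by simp [mz, mc, mf, mg])) mw (list_mem rfl _ this)).1)
  rcases (fO B.cO γ hγ).2.2.1 (cm_of (B.linj.eq (by gm) (by gm) uy))
    (cm_of (B.linj.eq (by gm) (by gm) ue)) with rfl | rfl | ⟨-, rfl | rfl⟩
  exacts [k 1 (one_mem _) pm_one, k r (mem_clo (by simp)) B.lr, k s (mem_clo (by simp)) B.ls,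
    k (r * s) (mul_mem (mem_clo (by simp)) (mem_clo (by simp))) (pm_mul B.lr B.ls)]

theorem B5.invU {u : G} (hu : u ∈ clo [z, c, f, g, r, s]) : (u * u = z ∨ u * u = c ∨ u * u = z * c) ∨
    u = 1 ∨ ∃ m ∈ clo [z, c, f, g, p, q], m * z * m⁻¹ = u := by
  have fn := B.ufn
  have hl := B.cey.2
  set Φ := gr gU [z, c, f, g, r, s]
  obtain ⟨mz, mc, mf, mg, mr, ms⟩ : (zM, z) ∈ Φ ∧ (cM, c) ∈ Φ ∧ (fM, f) ∈ Φ ∧ (gM, g) ∈ Φ ∧
      (rM, r) ∈ Φ ∧ (sM, s) ∈ Φ := by refine ⟨?_, ?_, ?_, ?_, ?_, ?_⟩ <;> exact mem_clo (by simp)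
  obtain ⟨u0, h1, mu⟩ := gr_left gU hu
  have key : ∀ {a0 b0 c0 d0 t0 a b c' d' t} {W : List (List ℕ)}, (a0, a) ∈ Φ → (b0, b) ∈ Φ → (c0, c') ∈ Φ →
      (d0, d') ∈ Φ → t ∈ clo [z, c, f, g, p, q] →
      (∀ n ∈ [c0, d0], ∀ x ∈ [zM, cM, a0, b0], n * x * n⁻¹ ∈ W1.map (ev (atm [zM, cM, a0, b0]))) →
      (t0 * zM * t0⁻¹ = a0 ∧ t0 * cM * t0⁻¹ = b0 ∧ t0 * a0 * t0⁻¹ = zM * a0 ∧
        t0 * b0 * t0⁻¹ = b0 * cM) → t * z * t⁻¹ = a → t * c * t⁻¹ = b → t * a * t⁻¹ = z * a →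
      t * b * t⁻¹ = b * c → (∃ w ∈ W, ev (atm [c0, d0, t0]) w * zM * (ev (atm [c0, d0, t0]) w)⁻¹ = u0) →
      ∃ m ∈ clo [z, c, f, g, p, q], m * z * m⁻¹ = u := by
    rintro a0 b0 c0 d0 t0 a b c' d' t W ma mb m1 m2 ht n1 ⟨n2, n3, n4, n5⟩ t1 t2 t3 t4 ⟨w, -, e1⟩
    have l : gr [zM, cM, a0, b0] [z, c, a, b] ≤ Φ := gr_le (by simp [*])
    have n := fun n hn => norm_clo fun x hx => list_mem rfl _ (n1 n hn x hx)
    have l' : gr [c0, d0, t0] [c', d', t] ≤ normalizer (gr [zM, cM, a0, b0] [z, c, a, b] : Set _) := by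
      refine gr_le ?_
      simp only [List.zip_cons_cons, List.zip_nil_right, List.forall_mem_cons]
      refine ⟨(HL.nrm_of fn l m1 (n _ (by simp))).1, (HL.nrm_of fn l m2 (n _ (by simp))).1,
        norm_clo ?_, by simp⟩
      simp only [List.zip_cons_cons, List.zip_nil_right, List.forall_mem_cons, Prod.mk_mul_mk,
        Prod.inv_mk, n2, n3, n4, n5, t1, t2, t3, t4]
      refine ⟨?_, ?_, pm_mul ?_ ?_, pm_mul ?_ ?_, by simp⟩ <;> exact mem_clo (by simp)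
    exact ⟨_, clo_le (by simp [ht, hl (gr_mem m1).2, hl (gr_mem m2).2]) (ev_mem_clo [c', d', t] w),
      fn.eq (l (HL.nj (l' (ev_mem_gr (by rfl) w)) (mem_clo (by simp)))) mu e1⟩
  rcases fU u0 h1 with e1 | e1 | e1 | e1
  · simp only [List.mem_cons, List.not_mem_nil, or_false] at e1
    exact Or.inl (e1.imp (fn.eq (by gm) mz) (Or.imp (fn.eq (by gm) mc) (fn.eq (by gm) (by gm))))
  · exact Or.inr (Or.inl (fn.eq mu pm_one e1))
  · exact Or.inr (Or.inr (key mf mr mg ms (mem_clo (by simp)) nW.1 nW.2.2.1 B.pz B.pc B.pf B.pr e1))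
  · exact Or.inr (Or.inr (key mg ms mf mr (mem_clo (by simp)) nW.2.1 nW.2.2.2 B.qz B.qc B.qg B.qs e1))

omit [Finite G] in
theorem B5.nz : c ≠ 1 ∧ c ≠ z ∧ z * c ≠ 1 := by
  obtain ⟨-, -, mc, -, -, -, mz⟩ := B.m
  exact ⟨fun e => absurd (B.inj.eq mc pm_one e) (by decide +kernel),
    fun e => absurd (B.inj.eq mc mz e) (by decide +kernel),
    fun e => absurd (B.inj.eq (pm_mul mz mc) pm_one e) (by decide +kernel)⟩

theorem B5.invU' {u : G} (hu : u ∈ clo [z, c, f, g, r, s]) (u2 : u * u = 1) (u1 : u ≠ 1) :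
    ∃ m ∈ clo [z, c, f, g, p, q], m * z * m⁻¹ = u :=
  ((B.invU hu).resolve_left (by simp [u2, B.z1.symm, B.nz.1.symm, B.nz.2.2.symm])).resolve_left u1

theorem B5.u8 {u : G} (hu : u ∈ clo [z, c, f, g, r, s]) : u ^ 2 ^ 3 = 1 := by
  obtain ⟨-, -, -, -, -, -, -, c2, cz, -⟩ := B.rel
  have : z * c * (z * c) = 1 := by rw [mul_assoc, ← mul_assoc c, cz, mul_assoc, c2, mul_one, B.z2]
  rw [show 2 ^ 3 = 2 * 2 * 2 from rfl, pow_mul, pow_mul, pow_two u, pow_two (u * u)]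
  rcases B.invU hu with (e | e | e) | e | ⟨m, -, rfl⟩
  all_goals simp [B.z2, *]

theorem B5.out : Nat.card (clo [z, c, f, g, p, q]) = 20160 ∧
    Out z c f g p q (p⁻¹ * q * (p⁻¹ * q)) := by
  obtain ⟨f2, fz, gz, gf, f1, fn, g2, c2, cz, cf, cg, -⟩ := B.rel
  set L := clo [z, c, f, g, p, q]
  obtain ⟨mz, mc, mf, mg, mp, mq⟩ : z ∈ L ∧ c ∈ L ∧ f ∈ L ∧ g ∈ L ∧ p ∈ L ∧ q ∈ L := by
    refine ⟨?_, ?_, ?_, ?_, ?_, ?_⟩ <;> exact mem_clo (by simp)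
  have cu : ∀ u ∈ L, u * z = z * u → u ∈ clo [z, c, f, g, r, s] := fun u hu uz =>
    B.cU uz (B.cey.1 u hu).1 (B.cey.1 u hu).2
  have one : ∀ t ∈ L, t * t = 1 → t ≠ 1 → ∃ m ∈ L, m * z * m⁻¹ = t := fun t ht t2 t1 => by
    obtain ⟨S, hS, l⟩ := exists_isSylowOf_ge (p := 2) (Q := clo [z, c, f, g, r, s])
      (fun u => ⟨3, Subtype.ext (B.u8 u.2)⟩) B.cey.2
    have zS : z ∈ S := l (mem_clo (by simp))
    have : Nontrivial S := ⟨⟨z, zS⟩, 1, fun e => B.z1 (congrArg Subtype.val e)⟩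
    have := hS.isP.center_nontrivial
    obtain ⟨_, ⟨v, h1, rfl⟩, h2, h3⟩ := exists_inv (N := (center S).map S.subtype) fun h' => by
      obtain ⟨x, x1⟩ := exists_ne (1 : center S)
      obtain ⟨n, e⟩ := hS.isP x
      exact x1 (Subtype.ext (Subtype.ext (one_of_pow h' ⟨x, x.2, rfl⟩ (congrArg Subtype.val e))))
    have cv : ∀ w ∈ S, w * v = v * w := fun w hw => congrArg Subtype.val (mem_center_iff.mp h1 ⟨w, hw⟩)
    obtain ⟨m, hm, e1⟩ := B.invU' (cu v (hS.le v.2) (cv z zS).symm) h2 h3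
    obtain ⟨n, hn, e2⟩ := conj_into hS ht t2
    have e3 := cj_comm (g := m⁻¹) (cv _ e2)
    rw [← e1, show m⁻¹ * (m * z * m⁻¹) * m⁻¹⁻¹ = z by group, ← cj_mul'] at e3
    have hw := mul_mem (inv_mem hm) hn
    obtain ⟨w, h4, e4⟩ := B.invU' (cu _ (mul_mem (mul_mem hw ht) (inv_mem hw)) e3)
      (by rw [conj_mul, t2]; simp) (mt conj_eq_one_iff.mp t1)
    exact ⟨(m⁻¹ * n)⁻¹ * w, mul_mem (inv_mem hw) h4, by rw [cj_mul', e4]; group⟩
  have fg : f * g * (f * g) = z := by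
    rw [inv_eq_of_sq g2] at gf
    rw [mul_assoc, ← mul_assoc g, gf, ← mul_assoc, fz, mul_assoc, f2, mul_one]
  have := outX (X := L) (z := ⟨z, mz⟩) (c := ⟨c, mc⟩) (f := ⟨f, mf⟩) (g := ⟨g, mg⟩) (p := ⟨p, mp⟩)
    (q := ⟨q, mq⟩) (fun t h1 h2 => (one t t.2 (congrArg Subtype.val h1) fun e => h2 (Subtype.ext e)).elim
      fun m e => ⟨⟨m, e.1⟩, Subtype.ext e.2⟩)
    (fun u e => Subtype.ext (B.u8 (cu u u.2 (congrArg Subtype.val e)))) (fun N hN => ?_)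
    (Subtype.ext B.z2) (fun e => B.z1 (congrArg Subtype.val e)) (fun u e => Subtype.ext
      (comm_clo (by simp [cz, cf, cg, B.cm B.mr B.m.2.2.1 (by decide +kernel),
        B.cm B.ms B.m.2.2.1 (by decide +kernel)]) _ (cu u u.2 (congrArg Subtype.val e))))
    (fun e => B.nz.1 (congrArg Subtype.val e)) (fun e => B.nz.2.1 (congrArg Subtype.val e))
    (Subtype.ext fz) (Subtype.ext gz) (Subtype.ext g2) (Subtype.ext fg) (Subtype.ext B.p3)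
    (Subtype.ext B.pz) (Subtype.ext B.pf) (Subtype.ext B.gp) (Subtype.ext B.q3) (Subtype.ext B.qz)
    (Subtype.ext B.qg) (Subtype.ext B.fq)
  · exact ⟨this.1, this.2.push L.subtype⟩
  · have k : ∀ t ∈ L, t * t = 1 → t ∈ N.map L.subtype := fun t ht t2 =>
      ⟨⟨t, ht⟩, hN _ (Subtype.ext t2), rfl⟩
    have l : L ≤ N.map L.subtype := clo_le (by
      simp only [List.forall_mem_cons]
      exact ⟨k z mz B.z2, k c mc c2, k f mf f2, k g mg g2,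
        (mul_mem_cancel_left (k g mg g2)).mp (k _ (mul_mem mg mp) B.gp),
        (mul_mem_cancel_left (k f mf f2)).mp (k _ (mul_mem mf mq) B.fq), by simp⟩)
    exact eq_top_iff.mpr fun u _ => (mem_map_iff_mem L.subtype_injective).mp (l u.2)

end Cfsg.Agent.SZ
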