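/-
The defining relations of the Suzuki group.
-/
import Cfsg.Agent.SZ.E
import Cfsg.Agent.Spor.SuzSimple

set_option autoImplicit false
set_option maxRecDepth 100000

namespace Cfsg.Agent.SZ

open HJ HX Subgroup PLoc

variable {G : Type*} [Group G]

def RH : List (List ℕ) := [[0, 0], [2, 2], [0, 2, 0, 2], [14, 14], [0, 14, 0, 14], [2, 14, 2, 14, 2, 14, 2, 14, 0], [4, 4], [0, 4, 0, 4], [2, 4, 2, 4], [14, 4, 14, 4], [6, 6], [0, 6, 0, 6], [2, 6, 2, 6], [14, 6, 14, 6], [16, 16], [18, 18, 18], [18, 16, 18, 16, 18, 16], [16, 14, 16, 14, 16, 14], [18, 14, 18, 14], [16, 2, 16, 2], [16, 0, 16, 0], [14, 0, 14, 0], [18, 0, 19, 0], [18, 2, 19, 2], [2, 0, 2, 0], [0, 16, 0, 16], [2, 14, 2, 14, 2, 14, 2, 14, 2, 14, 2, 14, 2, 14, 2, 14], [2, 16, 2, 16], [14, 16, 14, 16, 14, 16], [16, 4, 16, 4], [16, 6, 16, 6], [4, 6, 4, 6, 4, 6, 4, 6], [0, 14, 2, 14, 2, 14, 2, 14, 2], [0, 6, 4, 6, 4]]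
def RC : List (List ℕ) := [[12, 14, 12, 14], [12, 16, 12, 16], [12, 18, 12, 19], [2, 12, 2, 12, 2, 12]]
def w5 : List ℕ := [12, 2, 14, 2, 14, 12, 2, 14, 2, 14, 12, 2, 14, 2, 14, 12, 2, 14, 2, 14, 12, 2, 14, 2, 14]

theorem sat_ext {R : List (List ℕ)} {gs : List G} (h : Sat R gs) (hs : List G)
    (hc : ∀ l ∈ R, ∀ y ∈ l, y / 2 < gs.length) : Sat R (gs ++ hs) := fun l hl => by
  rw [← h l hl]
  have := hc l hl
  clear hl
  induction l with
  | nil => rfl
  | cons y l ih =>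
    rw [ev_cons, ev_cons, ih fun z hz => this z (List.mem_cons_of_mem _ hz), atm, atm,
      List.getD_append _ _ _ _ (this y (List.mem_cons_self ..))]

/-- the last generator -/
structure B7 (z f g c h i j e d y x p k q r s b c' : G) (Q : Subgroup G) (Λ : Subgroup (ΓV × G))
    (Δ Δ' : Subgroup (ΓQ × G)) : Prop extends B5 z f g c h i j e d y x p k q r s Q Λ Δ Δ' where
  hc : c' = c ∨ c' = z * c
  sat' : Sat (RH ++ RL ++ RC) [z, c', f, g, p, q, b, d, e, y]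
  hp : p ∈ clo [b, f, g]
  hq : q ∈ clo [b, f, g]
  bz : b * z ≠ z * b
  by' : b * y = y * b
  cL : Nat.card (clo [z, c, f, g, p, q]) = 20160

variable [Finite G] {z f g c h i j e d y x p k q r s b c' : G} {Q : Subgroup G}
  {Λ : Subgroup (ΓV × G)} {Δ Δ' : Subgroup (ΓQ × G)}

theorem B5.b7 (B : B5 z f g c h i j e d y x p k q r s Q Λ Δ Δ') :
    ∃ b c', B7 z f g c h i j e d y x p k q r s b c' Q Λ Δ Δ' := by
  obtain ⟨f2, fz, gz, gf, f1, fn, g2, c2, cz, -⟩ := B.rel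
  obtain ⟨nf, ng, nc, -, -, -, nz, ne, nd, ny, -⟩ := B.n
  obtain ⟨cL, o⟩ := B.out
  have sK : Sat cK3.R1 [f, g, z, p, k] := by
    have h1 : f * g * f * g * z = 1 := B.hfn.eq (by gm) pm_one (by decide +kernel)
    have h2 : p * z * p⁻¹ * f = 1 := by rw [B.pz, f2]
    have h3 : p * f * p⁻¹ * f * z = 1 := by rw [B.pf, mul_assoc z, f2, mul_one, B.z2]
    have h4 : k * f * k⁻¹ * g = 1 := by rw [B.kf, g2]
    have h5 : k * g * k⁻¹ * f = 1 := by rw [B.kg, f2]
    have h6 : k * k * z = 1 := by rw [B.k2, B.z2]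
    have h7 := B.p3
    have h8 := B.gp
    simp only [mul_assoc] at h1 h2 h3 h4 h5 h6 h7 h8
    simp [Sat, cK3.R1, atm, B.z2, f2, g2, h1, h2, h3, h4, h5, h6, h7, h8]
  have bw : ∀ w ∈ [[0], [2], [4], [8]], ev (atm [f, g, z, p, k]) w ∈ centralizer ({z} : Set G) := by
    have : k * z = z * k := by rw [← B.k2, mul_assoc]
    simp [atm, mem_centralizer_singleton_iff, *]
  have col : ¬ clo [f, g, z, p, k] ≤ centralizer {z} := fun l =>
    fn (by rw [← B.pz, cj_of_comm (mem_centralizer_singleton_iff.mp (l (mem_clo (by simp))))])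
  rcases o with o | o | ⟨hp, hq, c', hc, sL⟩
  · rw [← B.kp] at o
    exact absurd (cover1 rfl (cK3.st rfl (sK.append (by
      simpa [Sat, cK3.R2, atm, pow_succ, mul_assoc] using o)) bw) cK3.fin) col
  · rw [← B.kp] at o
    exact absurd (cover1 rfl (cK4.st rfl (sK.append (by
      simpa [Sat, cK4.R2, atm, pow_succ, mul_assoc] using o)) bw) cK4.fin) col
  have cm : ∀ {t}, p * t = t * p → q * t = t * q → p⁻¹ * q * (p⁻¹ * q) * t = t * (p⁻¹ * q * (p⁻¹ * q)) :=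
    fun h1 h2 => by
      have := (Commute.inv_left h1).mul_left h2
      exact this.mul_left this
  have be := cm B.pe B.qe
  have bd := cm B.pd B.qd
  have by' := cm B.py B.qy
  generalize p⁻¹ * q * (p⁻¹ * q) = b at *
  have h1 : b * b = 1 := by simpa [atm] using sL [12, 12] (by decide)
  have h2 : (z * b) ^ 5 = 1 := by
    simpa [atm, pow_succ, mul_assoc] using sL [0, 12, 0, 12, 0, 12, 0, 12, 0, 12] (by decide)
  have h3 : (b * f) ^ 3 = 1 := by
    simpa [atm, pow_succ, mul_assoc] using sL [12, 4, 12, 4, 12, 4] (by decide)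
  have h4 : (b * c') ^ 3 = 1 := by
    simpa [atm, pow_succ, mul_assoc] using sL [12, 2, 12, 2, 12, 2] (by decide)
  simp only [List.mem_cons, List.not_mem_nil, or_false] at hc
  obtain ⟨a0, h5, na⟩ : ∃ a0 ∈ [c0, z0 * c0], (a0, c') ∈ Δ' := by
    rcases hc with rfl | rfl
    exacts [⟨_, by simp, nc⟩, ⟨_, by simp, pm_mul nz nc⟩]
  have sq : ∀ {u v : G}, u * u = 1 → v * v = 1 → u * v = v * u → u * v * (u * v) = 1 :=
    fun {u v} h1 h2 h3 => by rw [mul_assoc, ← mul_assoc v, ← h3, mul_assoc, h2, mul_one, h1]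
  refine ⟨b, c', B, hc, Sat.append (Sat.append (Sat.tr B.hfn (xs := [z0, a0, f0, g0, 1, 1, 1, d0, e0, y0])
    (ys := [z, c', f, g, p, q, b, d, e, y]) (S := [0, 1, 2, 3, 7, 8, 9]) ⟨nz, na, nf, ng, nd, ne, ny, trivial⟩ (by decide)
      ((by decide +kernel : ∀ a0 ∈ [c0, z0 * c0], Sat RH [z0, a0, f0, g0, 1, 1, 1, d0, e0, y0]) a0 h5))
    (sat_ext sL [d, e, y] (by simp only [List.length_cons, List.length_nil]; decide))) ?_,
    hp ▸ ev_mem_clo _ _, hq ▸ ev_mem_clo _ _, fun e1 => fn ?_, by', cL⟩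
  · have h6 := sq h1 (B.hfn.eq (pm_mul nd nd) pm_one (by decide +kernel)) bd
    have h7 := sq h1 (B.hfn.eq (pm_mul ne ne) pm_one (by decide +kernel)) be
    have h8 : b * y * b * y⁻¹ = 1 := by rw [by', mul_assoc y, h1, mul_one, mul_inv_cancel]
    have h9 : (c' * b) ^ 3 = 1 := by
      rw [show c' * b = c' * (b * c') * c'⁻¹ by group, conj_pow, h4]; simp
    simp only [pow_succ, pow_zero, one_mul, mul_assoc] at h6 h7 h8 h9
    simp [Sat, RC, atm, h6, h7, h8, h9]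
  · rw [show 5 = 2 * 2 + 1 from rfl, pow_succ, pow_mul, pow_two (z * b), sq B.z2 h1 e1.symm, one_pow,
      one_mul] at h2
    rw [← inv_eq_of_mul_eq_one_right h2, inv_eq_of_sq B.z2, pow_succ, pow_two, sq B.z2 f2 fz.symm,
      one_mul] at h3
    rw [← inv_eq_of_mul_eq_one_right h3, inv_eq_of_sq B.z2]

variable (B : B7 z f g c h i j e d y x p k q r s b c' Q Λ Δ Δ')
include B

omit [Finite G] in
theorem B7.y1 : (b * c' * d * c' * d) ^ 5 = y ∨ (b * c' * d * c' * d) ^ 5 = y⁻¹ := by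
  obtain ⟨mf, mg, mc, -, -, -, mz⟩ := B.m
  obtain ⟨nf, ng, nc, -, -, -, nz, ne, nd, ny, -⟩ := B.n
  have T : ∀ t, Sat cT5.RL [z, b, c', d, t] → ∀ w ∈ [z, b, c', t, d * c' * d],
      (b * c' * d * c' * d) ^ 5 * w = w * (b * c' * d * c' * d) ^ 5 := fun t st => by
    have fn := fn_of_le (leT (satT.zip st)) chT_card
    set Φ := gr gT [z, b, c', d, t]
    obtain ⟨m1, m2, m3, m4, m5⟩ : (aT, z) ∈ Φ ∧ (bT, b) ∈ Φ ∧ (cT, c') ∈ Φ ∧ (dT, d) ∈ Φ ∧
      (fT, t) ∈ Φ := by refine ⟨?_, ?_, ?_, ?_, ?_⟩ <;> exact mem_clo (by simp)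
    have := yT
    simp only [List.forall_mem_cons] at this ⊢
    obtain ⟨e1, e2, e3, e4, e5, -⟩ := this
    exact ⟨fn.eq (by gm) (by gm) e1, fn.eq (by gm) (by gm) e2, fn.eq (by gm) (by gm) e3,
      fn.eq (by gm) (by gm) e4, fn.eq (by gm) (by gm) e5, by simp⟩
  have T1 := T f (B.sat'.ren [0, 6, 1, 7, 2] (by decide))
  have T2 := T g (B.sat'.ren [0, 6, 1, 7, 3] (by decide)) g (by simp)
  simp only [List.forall_mem_cons] at T1
  obtain ⟨tz, tb, tc, tf, td, -⟩ := T1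
  have col : (b * c' * d * c' * d) ^ 5 ≠ 1 := fun e1 => by
    have : Sat [w5] [z, c', f, g, p, q, b, d, e, y] := by
      simpa [Sat, w5, atm, pow_succ, mul_assoc] using e1
    refine B.bz (mem_centralizer_singleton_iff.mp (cover1 rfl (cY.st rfl
      ((B.sat'.append this).ren [1, 0, 8, 7, 9, 6] (by decide)) (K := centralizer {z}) ?_) cY.fin
        (mem_clo (by simp [sel]))))
    have : c' * z = z * c' := by
      rcases B.hc with rfl | rfl
      exacts [B.le _ (B.mem mc).2, B.le _ (B.mem (pm_mul mz mc)).2]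
    simp [cY.P, sel, atm, mem_centralizer_singleton_iff, this, NN.c B.me, NN.c B.md, NN.c B.my]
  generalize (b * c' * d * c' * d) ^ 5 = t at *
  have dz := NN.c B.md
  obtain ⟨tc, td⟩ : t * c = c * t ∧ t * (d * c * d) = d * c * d * t := by
    rcases B.hc with rfl | rfl
    · exact ⟨tc, td⟩
    · rw [← mul_assoc d, dz, mul_assoc z, mul_assoc z] at td
      exact ⟨by simpa using ((Commute.inv_right tz).mul_right tc).eq,
        by simpa using ((Commute.inv_right tz).mul_right td).eq⟩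
  have m5 : (d0 * c0 * d0, d * c * d) ∈ Δ := by
    have := HL.nj B.md.1 mc
    rwa [inv_eq_of_sq (B.hfn.eq (pm_mul nd nd) pm_one (by decide +kernel)),
      show d0⁻¹ = d0 by decide +kernel] at this
  obtain ⟨γ, hγ, m⟩ := B.lex tz
  have key : ∀ u0 u, (u0, u) ∈ Δ' → (γ, u) ∈ Λ → u * b = b * u → (u0 * f0 = f0 * u0 ∧
      u0 * g0 = g0 * u0 ∧ u0 * c0 = c0 * u0 ∧ u0 * (d0 * c0 * d0) = d0 * c0 * d0 * u0) → t = u := by
    rintro u0 u nu mu ub ⟨e1, e2, e3, e4⟩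
    obtain ⟨w0, w, mw, e5⟩ := B.lq m mu
    obtain rfl := inv_mul_eq_iff_eq_mul.mpr e5
    have k : ∀ {v0 v}, (v0, v) ∈ Δ → u0 * v0 = v0 * u0 → t * v = v * t → w0 * v0 = v0 * w0 :=
      fun mv h1 h2 => B.inj.eq (by gm) (by gm)
        ((Commute.inv_left (B.cm (B.hN nu) mv h1)).mul_left h2)
    have wb : Commute (u⁻¹ * t) b := (Commute.inv_left ub).mul_left tb
    rcases (fQ w0 (B.mem mw).1).2.2.2.2.2 (k mf e1 tf) (k mg e2 T2) (k mc e3 tc) (k m5 e4 td)
      with e6 | e6 | e6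
    · exact (inv_mul_eq_one.mp (B.fn.eq mw pm_one e6)).symm
    · exact absurd (B.fn.eq mw mz e6 ▸ wb).symm B.bz
    · exact absurd (B.fn.eq (pm_mul mw mw) mz e6 ▸ wb.mul_left wb).symm B.bz
  have ly := B.lam.2.2.1
  rcases (fO B.cO γ hγ).2.2.2
    (by simpa [show f0.ap 0 % 64 = 1 by decide +kernel] using B.fix m mf tf)
    (by simpa [show g0.ap 0 % 64 = 2 by decide +kernel] using B.fix m mg T2)
    (by simpa [show c0.ap 0 % 64 = 4 by decide +kernel] using B.fix m mc tc)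
    (by simpa [show (d0 * c0 * d0).ap 0 % 64 = 60 by decide +kernel] using B.fix m m5 td)
    with rfl | rfl | rfl
  · exact absurd (key 1 1 pm_one pm_one (by simp) (by simp)) col
  · exact Or.inl (key _ _ ny ly B.by'.symm (by decide +kernel))
  · exact Or.inr (key _ _ (pm_inv ny) (pm_inv ly) (Commute.inv_left B.by'.symm) (by decide +kernel))

omit [Finite G] in
theorem B7.hom : ∃ φ : Spor.Suz →* G, Function.Injective φ ∧ φ.range = clo [z, b, c', d, e, f, g] ∧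
    ∀ n < 7, φ (Spor.SuzG.f n) = [z, b, c', d, e, f, g].getD n 1 := by
  obtain ⟨-, -, -, -, -, -, -, ne, -, ny, -⟩ := B.n
  have : Sat [w5 ++ [16] ++ w5 ++ [16] ++ w5 ++ [16]] [z, c', f, g, p, q, b, d, e, y] := by
    have : ((b * c' * d * c' * d) ^ 5 * e) ^ 3 = 1 := by
      rcases B.y1 with e1 | e1 <;> rw [e1] <;> exact B.hfn.eq (by gm) pm_one (by decide +kernel)
    simpa [Sat, w5, atm, pow_succ, mul_assoc] using this
  obtain ⟨φ, hφ⟩ := Spor.SuzG.hom (pres_br (gs := [z, b, c', d, e, f, g]) (k := 7)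
    ((B.sat'.append this).ren (RL' := (List.range 7).map (fun j => [2 * j, 2 * j]) ++ Spor.SuzG.RL)
      [0, 6, 1, 7, 8, 2, 3] (by decide +kernel)) (by decide) (by simp +contextual))
  have := Spor.SuzG.simple
  refine ⟨φ, φ.ker_eq_bot_iff.mp (φ.normal_ker.eq_bot_or_eq_top.resolve_right fun e1 =>
    B.z1 ((hφ 0 (by omega)).symm.trans (e1.ge (mem_top _)))), ?_, hφ⟩
  rw [MonoidHom.range_eq_map, ← Spor.SuzG.top, Spor.gsub_map' hφ]
  exact gsub_br [z, b, c', d, e, f, g]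

end Cfsg.Agent.SZ
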