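/-
The hypothesis on the involution centraliser in convenient form.
-/
import Cfsg.Agent.SZ.Th
import Cfsg.Agent.S0288
import Cfsg.Agent.S0789

set_option autoImplicit false
set_option maxRecDepth 100000

namespace Cfsg.Agent.SZ

open HJ HX Subgroup PLoc
open scoped commutatorElement

variable {G : Type*} [Group G] [Finite G]

theorem card_omega : Nat.card (Omega (ZMod 2) (quadFormMinus 2 (ZMod 2) 1 1)) = 25920 := by
  have hab : ∀ z₁ z₂ : ZMod 2, z₁ ^ 2 + 1 * z₁ * z₂ + 1 * z₂ ^ 2 = 0 → z₁ = 0 ∧ z₂ = 0 := by decide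
  have c := S0288.result (F := ZMod 2) (q := 2) (by simp) 3 (by omega) 1 1 hab
  have i : (Omega (ZMod 2) (quadFormMinus 2 (ZMod 2) 1 1)).index = 2 := by
    refine (Class.index_commutator_congr (Class.oEquiv (Class.minusOS 2 (1 : ZMod 2) 1))).trans ?_
    rw [Class.FS.index_commutator (Class.minusOS_nondeg 2 hab)
      (Class.FS.rc_of_card (Or.inr (by rw [Class.minusOS_finrank]; omega)))
      (by rw [Class.minusOS_finrank]; omega)]
    simp
  have := (Omega (ZMod 2) (quadFormMinus 2 (ZMod 2) 1 1)).card_mul_index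
  rw [i, show Nat.card (isometryGroup (ZMod 2) (quadFormMinus 2 (ZMod 2) 1 1)) = 51840 from
    c.trans (by simp [Finset.prod_range_succ])] at this
  omega

theorem sq_of' {z : G} (hz : orderOf z = 2) {Q : Subgroup (centralizer ({z} : Set G))} [Q.Normal]
    (hF : generalizedFittingSubgroup (centralizer ({z} : Set G)) = Q)
    (hQ : IsExtraspecial 2 Q) (hcard : Nat.card Q = 2 ^ 7)
    (e : centralizer ({z} : Set G) ⧸ Q ≃* Omega (ZMod 2) (quadFormMinus 2 (ZMod 2) 1 1)) :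
    SQ z (Q.map (centralizer ({z} : Set G)).subtype) := by
  have h2c := Comp.centralizer_FStar_le (⊤ : Subgroup (centralizer ({z} : Set G)))
  rw [Comp.FStar_top, hF, top_inf_eq] at h2c
  obtain ⟨z2, z1⟩ := sq_of_order hz
  obtain ⟨⟨hP, hF, hC⟩, hZ⟩ := hQ
  have cz : ∀ {x}, x * z = z * x → x ∈ centralizer ({z} : Set G) := mem_centralizer_singleton_iff.mpr
  have mz : (⟨z, cz rfl⟩ : centralizer ({z} : Set G)) ∈ Q := h2c fun x _ =>
    Subtype.ext (mem_centralizer_singleton_iff.mp x.2)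
  have Z : ∀ x ∈ center Q, (x : G) = 1 ∨ (x : G) = z := fun x hx => by
    obtain ⟨y, -, hy⟩ := (Nat.card_eq_two_iff' (1 : center Q)).mp hZ
    by_cases x1 : (x : G) = 1
    · exact Or.inl x1
    · have e1 := hy ⟨x, hx⟩ fun e => x1 (congrArg (fun y : center Q => (y : G)) e)
      have e2 := hy ⟨⟨_, mz⟩, mem_center_iff.mpr fun x =>
        Subtype.ext (Subtype.ext (mem_centralizer_singleton_iff.mp x.1.2))⟩
        fun e => z1 (congrArg (fun y : center Q => (y : G)) e)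
      exact Or.inr (congrArg (fun y : center Q => (y : G)) (e1.trans e2.symm))
  refine ⟨⟨z2, z1, ?_, ?_, ?_⟩, ?_, by rw [card_map_of_injective (subtype_injective _), hcard]; rfl, ?_,
    ?_, ⟨_, mz, rfl⟩⟩
  · rintro _ ⟨x, -, rfl⟩
    exact mem_centralizer_singleton_iff.mp x.2
  · rintro _ ⟨x, hx, rfl⟩ _ ⟨y, hy, rfl⟩
    have := Z ⁅(⟨x, hx⟩ : Q)⁻¹, (⟨y, hy⟩ : Q)⁻¹⁆
      (hC ▸ commutator_mem_commutator (mem_top _) (mem_top _))
    refine this.imp (fun e => ?_) fun e => ?_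
    · have e : (x : G)⁻¹ * (y : G)⁻¹ * (x : G)⁻¹⁻¹ * (y : G)⁻¹⁻¹ = 1 := e
      show (x : G) * y = y * x
      rw [← mul_one ((y : G) * x), ← e]; group
    · have e : (x : G)⁻¹ * (y : G)⁻¹ * (x : G)⁻¹⁻¹ * (y : G)⁻¹⁻¹ = z := e
      exact (show (x : G) * y = y * x * ((x : G)⁻¹ * (y : G)⁻¹ * (x : G)⁻¹⁻¹ * (y : G)⁻¹⁻¹) by
        group).trans (congrArg _ e)
  · rintro _ ⟨x, hx, rfl⟩
    have := Z _ (hF ▸ PLoc.pow_mem_frattini hP ⟨x, hx⟩)
    rw [pow_two] at this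
    exact this
  · rintro h hh _ ⟨x, hx, rfl⟩
    exact ⟨_, ‹Q.Normal›.conj_mem x hx ⟨h, cz hh⟩, rfl⟩
  · rw [card_eq_card_quotient_mul_card_subgroup Q, Nat.card_congr e.toEquiv, card_omega, hcard]
    rfl
  · intro h hh hx
    have m : (⟨h, cz hh⟩ : centralizer ({z} : Set G)) ∈ Q := h2c fun x hx' =>
      Subtype.ext (hx x ⟨x, hx', rfl⟩).symm
    exact Z ⟨_, m⟩ (mem_center_iff.mpr fun x => Subtype.ext (Subtype.ext (hx x ⟨x, x.2, rfl⟩).symm))

end Cfsg.Agent.SZ
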