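/-
The subgroup generated by the seven involutions is the whole group.
-/
import Cfsg.Agent.SZ.F
import Cfsg.Agent.SZ.Hyp
import Cfsg.Agent.ZD.Fin
import Cfsg.Agent.HX.Abs2

set_option autoImplicit false
set_option maxRecDepth 100000

namespace Cfsg.Agent.SZ

open HJ HX Subgroup PLoc

variable {G : Type*} [Group G] [Finite G] {z f g c h i j e d y x p k q r s b c' : G}
  {Q : Subgroup G} {Λ : Subgroup (ΓV × G)} {Δ Δ' : Subgroup (ΓQ × G)}
  (B : B7 z f g c h i j e d y x p k q r s b c' Q Λ Δ Δ')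
include B

set_option hygiene false in
local notation "K" => clo [z, b, c', d, e, f, g]

omit [Finite G] in
theorem B7.leK : clo [z, c, f, g, p, q] ≤ K ∧ ∀ t, t * z = z * t → t ∈ K := by
  obtain ⟨nf, ng, nc, nh, ni, nj, nz, ne, nd, ny, -⟩ := B.n
  have m : ∀ u ∈ [z, b, c', d, e, f, g], u ∈ K := fun _ => mem_clo
  simp only [List.forall_mem_cons] at m
  obtain ⟨mz, mb, mc', md, me, mf, mg, -⟩ := m
  have my : y ∈ K := by
    have : (b * c' * d * c' * d) ^ 5 ∈ K :=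
      pow_mem (mul_mem (mul_mem (mul_mem (mul_mem mb mc') md) mc') md) 5
    rcases B.y1 with e1 | e1 <;> rw [e1] at this
    exacts [this, inv_mem_iff.mp this]
  have mc : c ∈ K := by
    rcases B.hc with rfl | rfl
    exacts [mc', (mul_mem_cancel_left mz).mp mc']
  have l : clo [b, f, g] ≤ K := HL.clo_sub (by simp)
  have l1 : clo [z, c, f, g, p, q] ≤ K := clo_le (by simp [l B.hp, l B.hq, *])
  have mj : j ∈ K := B.hfn.eq (y := e * (d * c * d) * e) (by gm) nj (by decide +kernel) ▸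
    mul_mem (mul_mem me (mul_mem (mul_mem md mc) md)) me
  have mh : h ∈ K := B.hfn.eq (y := y * j * y⁻¹) (by gm) nh (by decide +kernel) ▸
    mul_mem (mul_mem my mj) (inv_mem my)
  have mi : i ∈ K := B.hfn.eq (y := y * h * y⁻¹) (by gm) ni (by decide +kernel) ▸
    mul_mem (mul_mem my mh) (inv_mem my)
  have l2 := B.cey.2.trans l1
  refine ⟨l1, fun t tz => ?_⟩
  obtain ⟨γ, hγ, m⟩ := B.lex tz
  obtain ⟨-, ld, -, lx⟩ := B.lam
  have lr := B.lr
  have ls := B.ls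
  obtain ⟨u, h1, h2⟩ := gr_right [x, d * r * d * s] hγ
  obtain ⟨w0, w, mw, rfl⟩ := B.lq m (gr_le (Δ := Λ) (by
    simp only [List.zip_cons_cons, List.zip_nil_right, List.forall_mem_cons]
    exact ⟨lx, by rw [fG.2.1]; gm, by simp⟩) h2)
  refine mul_mem (clo_le ?_ h1) (clo_le (by simp [*]) (gr_mem (B.eΔ ▸ mw)).2)
  simp only [List.forall_mem_cons]
  exact ⟨B.hx ▸ pow_mem (mul_mem (mul_mem md me) my) 6, mul_mem (mul_mem (mul_mem md
    (l2 (mem_clo (by simp)))) md) (l2 (mem_clo (by simp))), by simp⟩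

theorem B7.cls {t : G} (tz : t * z = z * t) (t2 : t * t = 1) (t1 : t ≠ 1) :
    ((∃ m ∈ K, m * z * m⁻¹ = t) ∧ (t = z ∨ ∃ m ∈ K, m * z * m⁻¹ = z * t)) ∨
      ∃ m ∈ K, m * e * m⁻¹ = t := by
  obtain ⟨l1, l2⟩ := B.leK
  obtain ⟨mf, mg, mc, mh, mi, -, mz⟩ := B.m
  obtain ⟨nf, ng, -, nh, ni, -, nz, ne, -⟩ := B.n
  have A : ∀ n u, n * z = z * n → u ∈ clo [z, c, f, g, r, s] → n * u * n⁻¹ = t →
      (∃ m ∈ K, m * z * m⁻¹ = t) ∧ (t = z ∨ ∃ m ∈ K, m * z * m⁻¹ = z * t) := by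
    rintro n u nz hu rfl
    have k : ∀ v ∈ clo [z, c, f, g, r, s], n * v * n⁻¹ * (n * v * n⁻¹) = 1 → n * v * n⁻¹ ≠ 1 →
        ∃ m ∈ K, m * z * m⁻¹ = n * v * n⁻¹ := fun v hv h1 h2 => by
      obtain ⟨m, h3, rfl⟩ := B.invU' hv (conj_eq_one_iff.mp (conj_mul.symm.trans h1))
        (mt conj_eq_one_iff.mpr h2)
      exact ⟨n * m, mul_mem (l2 n nz) (l1 h3), cj_mul' _ _ _⟩
    refine ⟨k u hu t2 t1, or_iff_not_imp_left.mpr fun h1 => ?_⟩
    have := k (z * u) (mul_mem (mem_clo (by simp)) hu)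
    rw [← conj_mul, cj_of_comm nz] at this
    exact this (by rw [mul_assoc, ← mul_assoc _ z, tz, mul_assoc, t2, mul_one, B.z2])
      fun e1 => h1 (by rw [← inv_eq_of_mul_eq_one_right e1, inv_eq_of_sq B.z2])
  obtain ⟨γ, hγ, m⟩ := B.lex tz
  have dn : ∀ {w μ u}, μ ∈ clo gO → γ = μ * w * μ⁻¹ → (w, u) ∈ Λ → ∃ n v0 v, n * z = z * n ∧
      (v0, v) ∈ Δ ∧ n * (u * v) * n⁻¹ = t ∧ u * v * (u * v) = 1 := by
    rintro w μ u h1 rfl mu
    obtain ⟨n, mn⟩ := B.ldown h1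
    obtain ⟨v0, v, mv, e1⟩ := B.lq (t := n⁻¹ * t * n⁻¹⁻¹)
      (by simpa [mul_assoc] using pm_mul (pm_mul (pm_inv mn) m) mn) mu
    exact ⟨n, v0, v, B.lz mn, mv, by rw [← e1]; group, by rw [← e1, conj_mul, t2]; simp⟩
  rcases ((fO B.cO γ hγ).2.1 (sq_of (B.linj.eq (by gm) pm_one t2))).1 with rfl | e1 | e1
  · rcases B.inv (B.lker m) t2 with e1 | e1 | ⟨n, h1, h2⟩
    exacts [absurd e1 t1, Or.inl (A 1 z (by simp) (mem_clo (by simp)) (by simp [e1])),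
      Or.inl (A n f h1 (mem_clo (by simp)) h2)]
  · obtain ⟨μ, h1, h2⟩ := cls_of kr_eq e1
    obtain ⟨n, v0, v, h3, mv, h4, h5⟩ := dn h1 h2 B.lr
    have r2 : r * r = 1 := by simpa [atm] using B.sat [8, 8] (by decide)
    have := (fQ v0 (B.mem mv).1).2.2.2.2.1 (B.inj.eq (pm_mul (HL.nj B.mr.1 mv) mv) pm_one
      (by rw [inv_eq_of_sq r2, ← h5]; group))
    exact Or.inl (A n _ h3 (mul_mem (mem_clo (by simp)) (HL.clo_sub (by simp) (mem_of_gr B.fn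
      (xs := [z0, c0, f0]) (ys := [z, c, f]) (gr_le (by simp [mz, mc, mf])) mv
        (list_mem rfl _ this)).1)) h4)
  · obtain ⟨μ, h1, h2⟩ := cls_of ke_eq e1
    obtain ⟨n, v0, v, h3, mv, rfl, h5⟩ := dn h1 h2 B.lam.1
    have nv := B.hle mv
    obtain ⟨a, -, h6⟩ := ((fQ v0 (B.mem mv).1).2.2.1 (B.hinj.eq (by gm) pm_one h5)).2
    have mw : (ev (atm gQ) (wd a), ev (atm [f, g, c, h, i, j, z]) (wd a)) ∈ Δ :=
      B.eΔ ▸ ev_mem_gr (by rfl) _
    generalize ev (atm gQ) (wd a) = w0 at *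
    generalize ev (atm [f, g, c, h, i, j, z]) (wd a) = w at *
    have nw := B.hle mw
    have h7 : i * h * e * (i * h)⁻¹ = e * z := B.hfn.eq (by gm) (by gm) (by decide +kernel)
    have fin : ∀ u ∈ K, u * (e * z) * u⁻¹ = w * (e * v) * w⁻¹ →
        ∃ m ∈ K, m * e * m⁻¹ = n * (e * v) * n⁻¹ := fun u hu e2 =>
      ⟨n * w⁻¹ * u * (i * h), mul_mem (mul_mem (mul_mem (l2 n h3) (inv_mem (l2 w (B.le _ (B.mem mw).2))))
        hu) (l2 _ (B.le _ (B.mem (pm_mul mi mh)).2)), by rw [cj_mul', h7, cj_mul', e2]; group⟩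
    simp only [List.mem_cons, List.not_mem_nil, or_false] at h6
    rcases h6 with h6 | h6 | h6
    · exact Or.inr (fin 1 (one_mem _) (by simpa using B.hfn.eq (by gm) (by gm) h6.symm))
    · exact Or.inr (fin p (l1 (mem_clo (by simp))) (by
        rw [← conj_mul, cj_of_comm B.pe, B.pz]; exact B.hfn.eq (by gm) (by gm) h6.symm))
    · exact Or.inr (fin q (l1 (mem_clo (by simp))) (by
        rw [← conj_mul, cj_of_comm B.qe, B.qz]; exact B.hfn.eq (by gm) (by gm) h6.symm))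

theorem B7.nze (m : G) : m * z * m⁻¹ ≠ e := fun e1 => by
  have := card_dvd_of_le (show clo [z, c, f, g, p, q] ≤ cj m (centralizer {z}) from fun u hu => by
    rw [HX.cj_cent, e1]; exact mem_centralizer_singleton_iff.mpr (B.cey.1 u hu).1)
  rw [card_cj, B.cL, B.cardH] at this
  omega

theorem B7.syl {M : Subgroup G} (hM : Q ≤ M) :
    ∃ P, IsSylowOf 2 P M ∧ Q ≤ P ∧ ∀ x ∈ P, x * z = z * x :=
  sylow_cent hM (IsPGroup.of_card (n := 7) B.card) B.zmem B.z1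
    fun x _ hx => B.cent x (hx z B.zmem) hx

theorem B7.simple : IsSimpleGroup G := by
  obtain ⟨φ, i, r, -⟩ := B.hom
  obtain ⟨f2, fz, -, -, f1, fn, -⟩ := B.rel
  obtain ⟨P, hP, l, pz⟩ := B.syl le_top
  have : Nontrivial G := ⟨z, 1, B.z1⟩
  refine ⟨fun N hN => ?_⟩
  by_cases n : ∀ t ∈ N, t * t = 1 → t = 1
  · have k : ∀ m, ∀ u ∈ N, u * (m * z * m⁻¹) = m * z * m⁻¹ * u → u = 1 := fun m u hu e1 => by
      have e2 := cj_comm (g := m⁻¹) e1
      rw [show m⁻¹ * (m * z * m⁻¹) * m⁻¹⁻¹ = z by group] at e2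
      have h1 := hN.conj_mem u hu m⁻¹
      refine conj_eq_one_iff.mp (n _ h1 ?_)
      generalize m⁻¹ * u * m⁻¹⁻¹ = v at *
      rcases B.cent v e2 fun w hw => mul_inv_eq_iff_eq_mul.mp (mul_inv_eq_one.mp (one_of_pow n (k := 2)
        (by simpa [mul_assoc] using mul_mem h1 (hN.conj_mem _ (inv_mem h1) w)) (by
          rw [show 2 ^ 2 = 2 * 2 from rfl, pow_mul, pow_two (_ * _), pow_two]
          rcases B.sq _ (mul_mem (B.norm v e2 w hw) (inv_mem hw)) with e3 | e3 <;>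
            simp [e3, B.z2]))) with e3 | e3 <;> simp [e3, B.z2]
    exact Or.inl (eq_bot_iff.mpr (eq_one_of_fpf (fun x hx => hN.conj_mem x hx z)
      (fun x hx => hN.conj_mem x hx f) B.z2 f2 (by simpa using k 1) (B.pz ▸ k p)
      (by have := k (p * p); rwa [cj_mul', B.pz, B.pf] at this)))
  · obtain ⟨t, h1, h2, h3⟩ := exists_inv n
    obtain ⟨m, -, h4⟩ := conj_into hP (mem_top t) h2
    obtain ⟨u, h5⟩ := r.ge (B.leK.2 _ (pz _ h4))
    have := Spor.SuzG.simple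
    have KN : K ≤ N := by
      rw [← r, MonoidHom.range_eq_map, map_le_iff_le_comap]
      refine ((hN.comap φ).eq_bot_or_eq_top.resolve_left fun e1 => h3 ?_).ge
      have : u = 1 := e1.le (show φ u ∈ N from h5 ▸ hN.conj_mem t h1 m)
      rw [this, map_one, eq_comm] at h5
      exact conj_eq_one_iff.mp h5
    refine Or.inr (eq_top_iff.mpr fun u _ => ?_)
    obtain ⟨a, ha, v, hv, rfl⟩ := (hP.of_le (fun w hw => KN (B.leK.2 w (pz w hw))) le_top).frattini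
      (h := u) (le_normalizer_of_normal (mem_top u))
    refine mul_mem ha (KN (B.leK.2 v (comm_of_cj ((B.cent _ (pz _ (conj_mem_of_mem_normalizer hv
      (l B.zmem))) fun w hw => ?_).resolve_left (by simpa using B.z1)))))
    simpa [mul_assoc] using (cj_comm (g := v) (pz _ (conj_mem_of_mem_normalizer (inv_mem hv) (l hw)))).symm

theorem B7.top : K = ⊤ := by
  by_contra hK
  have := B.simple
  obtain ⟨l1, l2⟩ := B.leK
  obtain ⟨P, hP, -, pz⟩ := B.syl le_top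
  obtain ⟨S, rfl⟩ := hP.exists_sylow_top
  obtain ⟨P, hP, -, pz'⟩ := B.syl (M := clo [z, b, c', d, e, f, g]) fun w hw => l2 w (B.le w hw)
  have zK : z ∈ K := mem_clo (by simp)
  have sq : ∀ γ : G, γ * z * γ⁻¹ * (γ * z * γ⁻¹) = 1 ∧ γ * z * γ⁻¹ ≠ 1 := fun γ =>
    ⟨by rw [conj_mul, B.z2]; simp, by simpa using B.z1⟩
  have h2 : ∀ u : G, u * z * u⁻¹ ∈ K → u ∈ K := fun u hu => by
    obtain ⟨n, hn, h1⟩ := conj_into hP hu (sq u).1
    rw [← cj_mul'] at h1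
    rcases B.cls (pz' _ h1) (sq _).1 (sq _).2 with ⟨⟨m, h2, h3⟩, -⟩ | ⟨m, -, h3⟩
    · have := l2 (m⁻¹ * (n * u)) (comm_of_cj (by rw [cj_mul', ← h3]; group))
      exact (mul_mem_cancel_left hn).mp ((mul_mem_cancel_left (inv_mem h2)).mp this)
    · exact absurd (by rw [cj_mul', ← h3]; group) (B.nze (m⁻¹ * (n * u)))
  obtain ⟨-, -, se⟩ := ZD.s1175 hK (orderOf_eq_prime (by rw [pow_two, B.z2]) B.z1) zK
    (BG.syl_top Nat.prime_two S) (fun w hw => mem_centralizer_singleton_iff.mpr (pz w hw)) h2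
    fun u h3 h4 w hw => by
      rcases B.cls h3.symm (sq _).1 (sq _).2 with ⟨-, h5⟩ | ⟨m, -, h5⟩
      · obtain ⟨m, h5, h6⟩ := h5.resolve_left h4
        have := cj_comm (g := m⁻¹) (h6 ▸ mem_centralizer_singleton_iff.mp hw)
        rw [show m⁻¹ * (m * z * m⁻¹) * m⁻¹⁻¹ = z by group] at this
        simpa [mul_assoc] using mul_mem (mul_mem h5 (l2 _ this)) (inv_mem h5)
      · exact absurd (by rw [cj_mul', ← h5]; group) (B.nze (m⁻¹ * u))
  obtain ⟨u, hu⟩ := not_forall.mp (mt (eq_top_iff' _).mpr hK)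
  obtain ⟨D, -, -, h3⟩ := HL.se_gen zK B.z2 B.z1 (fun v t ht t2 t1 h4 => by
    by_contra hv
    have := orderOf_dvd_natCard (⟨_, mem_inf.2 ⟨h4, ⟨t, ht, rfl⟩⟩⟩ :
      (K ⊓ (K).map (MulAut.conj v).toMonoidHom : Subgroup G))
    rw [← orderOf_coe, orderOf_eq_prime (p := 2) (by rw [pow_two, conj_mul, t2]; simp)
      (by simpa using t1)] at this
    exact Nat.not_even_iff_odd.mpr (se v hv) (even_iff_two_dvd.mpr this)) hu
  obtain ⟨m, -, h4⟩ := h3 e (mem_clo (by simp))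
    (B.hfn.eq (pm_mul B.ne B.ne) pm_one (by decide +kernel))
    fun e1 => absurd (B.hinj.eq B.ne pm_one e1) (by decide +kernel)
  exact B.nze m h4

omit B in
theorem SQ.b7 (H : SQ z Q) {γ : G} (h1 : γ * z * γ⁻¹ ∈ Q) (h2 : γ * z * γ⁻¹ ≠ z) :
    ∃ f g c h i j e d y x p k q r s b c' Λ Δ Δ',
      B7 z f g c h i j e d y x p k q r s b c' Q Λ Δ Δ' := by
  obtain ⟨f, g, c, h, i, j, Λ, Δ, B⟩ := H.b1
  obtain ⟨e, d, y, x, B⟩ := B.b2
  obtain ⟨ρ, r0, r1, r2⟩ := B.rho h1 h2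
  obtain ⟨Δ', B⟩ := B.b3 (B.eps r0 r1 r2)
  obtain ⟨p, p1, p2, p3, p4, p5, p6, p7⟩ := B.p r0 r1 r2
  obtain ⟨k, q, r, s, B⟩ := B4.b5 ⟨B, p1, p2, p3, p4, p5, p6, p7⟩
  obtain ⟨b, c', B⟩ := B.b7
  exact ⟨f, g, c, h, i, j, e, d, y, x, p, k, q, r, s, b, c', Λ, Δ, Δ', B⟩

theorem B7.iso : ∃ φ : Spor.Suz ≃* G,
    ∀ n < 7, φ (Spor.SuzG.f n) = [z, b, c', d, e, f, g].getD n 1 := by
  obtain ⟨φ, h1, h2, h3⟩ := B.hom
  exact ⟨MulEquiv.ofBijective φ ⟨h1, MonoidHom.range_eq_top.mp (h2.trans B.top)⟩, h3⟩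

end Cfsg.Agent.SZ
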