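/-
The elementary abelian subgroup of order `3⁵` in the action on 22880 points: data and checks.
-/
import Cfsg.Agent.Spor.SuzSimple
import Cfsg.Agent.Gol.Simp

set_option autoImplicit false
set_option maxRecDepth 100000
set_option Elab.async false

namespace Cfsg.Agent.SZ

open _root_.Cfsg.Agent.Spor Suz22880.S

def Dl : List ℕ := [0, 7122, 11163, 15403, 15410, 15757, 19056, 19082, 19450, 21619, 21632]
def lab : List ℕ := [0, 0, 7122, 11163, 15403, 0, 15410, 0, 21619, 21632, 0, 0, 15757, 19082, 0, 0, 19450, 0, 19056, 0, 0, 0, 0, 0]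
def Yw : List (List ℕ) := [[15, 15, 15, 15, 15], [9, 16, 9, 16, 13, 11, 9, 16, 9, 15, 15, 15, 15, 15, 9, 15, 9, 11, 13, 15, 9, 15, 9], [9, 3, 16, 9, 16, 13, 11, 9, 16, 9, 15, 15, 15, 15, 15, 9, 15, 9, 11, 13, 15, 9, 15, 3, 9], [9, 15, 11, 9, 16, 13, 9, 1, 16, 9, 15, 15, 15, 15, 15, 9, 15, 1, 9, 13, 15, 9, 11, 16, 9], [9, 7, 5, 16, 13, 11, 9, 15, 5, 7, 9, 15, 15, 15, 15, 15, 9, 7, 5, 16, 9, 11, 13, 15, 5, 7, 9]]
def MW : List (List ℕ × ℕ) := [([11, 1], 944576703234065857180591671912828960), ([9, 16, 9, 16, 9, 13, 11, 16, 9, 1], 981967399443108749119423733699981408), ([3], 970254902120350598020240965873371168), ([5], 721064549862662597311266359538158624), ([13, 15, 13, 11, 16, 7], 899189355044933402820830013086107680), ([1, 3, 13, 15, 5, 11, 7, 5, 16], 227578386318009578406903204956702752), ([9, 15, 7, 5, 9, 11, 16, 11, 15, 15, 7, 9, 7, 1], 715872302521680643580706198532491296)]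

/-- the words fix the listed points and move `p` to `s` places -/
noncomputable def lev (W : List (List ℕ)) (l : List ℕ) (p : ℕ) (gl : List ℕ) (s : ℕ) : Bool :=
  band (lall (fun w => lall (fun q => U.sends w q q) l) W)
    (sizeOk 15 (U.growI W gl (Nat.shiftLeft 1 p)) s)

/-- points seen to move -/
noncomputable def mvd (w : List ℕ) : ℕ := lor (lmap (fun p => Nat.xor (U.pushL w p) p) (idpls 15 15 0))

/-- a commutator of elements of order three -/
def cw (i j : ℕ) : List ℕ := Yw.getD i [] ++ (Yw.getD j [] ++ (Yw.getD i [] ++ (Yw.getD i [] ++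
  (Yw.getD j [] ++ Yw.getD j []))))

theorem lv1 : lev [[1], [3], [5], [7], [9], [11], [13]] [] 0 [4, 3, 2, 1, 3, 0, 5, 6, 1, 2, 4, 3, 1, 5, 0, 1, 4, 2, 6, 1, 3, 0, 5, 6, 1, 2, 4, 3, 1, 6, 5, 4, 1, 2, 6, 1, 3, 2] 22880 = true := by decide +kernel
theorem lv2 : lev [[1], [3], [5], [7], [11], [13]] [0] 7122 [0, 2, 3, 4, 5, 1, 2, 0, 1, 5, 4, 1, 0] 280 = true := by decide +kernel
theorem lv3 : lev [[5, 7, 1, 16, 16], [16, 16, 13, 11, 16]] [7122, 0] 11163 [0, 1, 0, 1, 0, 1, 0, 1, 0, 1, 0, 1, 1, 0, 1, 0] 36 = true := by decide +kernel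
theorem lw0 : lev [[11, 1], [9, 16, 9, 16, 9, 13, 11, 16, 9, 1]] [] 0 [1, 0, 1, 1, 0, 1, 0] 11 = true := by decide +kernel
theorem lw1 : lev [[3], [5], [11, 1]] [0] 7122 [1, 2, 0, 1, 2] 10 = true := by decide +kernel
theorem lw2 : lev [[3], [13, 15, 13, 11, 16, 7]] [7122, 0] 11163 [0, 1, 0, 1, 1] 9 = true := by decide +kernel
theorem lw3 : lev [[1, 3, 13, 15, 5, 11, 7, 5, 16], [9, 15, 7, 5, 9, 11, 16, 11, 15, 15, 7, 9, 7, 1]] [11163, 7122, 0] 15403 [0, 1, 0, 0] 8 = true := by decide +kernel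
theorem lvA : lev Yw Dl 1 [0, 0, 1, 1, 2, 2, 3, 3, 4, 4] 243 = true := by decide +kernel
theorem cMW : ∀ x ∈ MW, Gol.inM x.2 = true ∧ Gol.ap x.2 0 = 0 ∧ Gol.img x.2 340831 = 340831 ∧
    ∀ i < 24, i ≠ 0 → Nat.testBit 340831 i = true →
      U.sends x.1 (lab.getD i 0) (lab.getD (Gol.ap x.2 i) 0) = true := by decide +kernel
theorem y3_0 : U.rel 15 (Yw.getD 0 [] ++ Yw.getD 0 [] ++ Yw.getD 0 []) 0 15 = true := by decide +kernel
theorem y3_1 : U.rel 15 (Yw.getD 1 [] ++ Yw.getD 1 [] ++ Yw.getD 1 []) 0 15 = true := by decide +kernel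
theorem y3_2 : U.rel 15 (Yw.getD 2 [] ++ Yw.getD 2 [] ++ Yw.getD 2 []) 0 15 = true := by decide +kernel
theorem y3_3 : U.rel 15 (Yw.getD 3 [] ++ Yw.getD 3 [] ++ Yw.getD 3 []) 0 15 = true := by decide +kernel
theorem y3_4 : U.rel 15 (Yw.getD 4 [] ++ Yw.getD 4 [] ++ Yw.getD 4 []) 0 15 = true := by decide +kernel
theorem yc_10 : U.rel 15 (cw 0 1) 0 15 = true := by decide +kernel
theorem yc_20 : U.rel 15 (cw 0 2) 0 15 = true := by decide +kernel
theorem yc_21 : U.rel 15 (cw 1 2) 0 15 = true := by decide +kernel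
theorem yc_30 : U.rel 15 (cw 0 3) 0 15 = true := by decide +kernel
theorem yc_31 : U.rel 15 (cw 1 3) 0 15 = true := by decide +kernel
theorem yc_32 : U.rel 15 (cw 2 3) 0 15 = true := by decide +kernel
theorem yc_40 : U.rel 15 (cw 0 4) 0 15 = true := by decide +kernel
theorem yc_41 : U.rel 15 (cw 1 4) 0 15 = true := by decide +kernel
theorem yc_42 : U.rel 15 (cw 2 4) 0 15 = true := by decide +kernel
theorem yc_43 : U.rel 15 (cw 3 4) 0 15 = true := by decide +kernel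
theorem cFix : sub (ones 22880) (lor (lor (Dl.map (Nat.shiftLeft 1)) :: Yw.map mvd)) = true := by decide +kernel
theorem cNc : U.sends ([9, 16, 9, 16, 9, 13, 11, 16, 9, 1] ++ Yw.getD 0 []) 1 706 = true ∧ U.sends (Yw.getD 0 [] ++ [9, 16, 9, 16, 9, 13, 11, 16, 9, 1]) 1 1642 = true := by
  decide +kernel

end Cfsg.Agent.SZ
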