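/-
The elementary abelian subgroup of order `3⁵`, its centraliser and its normaliser.
-/
import Cfsg.Agent.SZ.ND
import Cfsg.Agent.SZ.V
import Cfsg.Agent.PLoc.Basic
import Cfsg.Prelude.Def_Spor_Mathieu
import Cfsg.Prelude.Def_Transfer

set_option autoImplicit false
set_option maxRecDepth 100000

namespace Cfsg.Agent.SZ

open _root_.Cfsg.Agent.Spor Suz22880.S Subgroup Equiv
open scoped Pointwise

theorem tau_mem (z : ℕ) : U.τ z ∈ U.lsub W1 := by
  have k : ∀ l, Spor.ev (Spor.atm 7 Suz22880.fP) l ∈ U.lsub W1 := fun l => eG ▸ ev_atm_mem 7 _ l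
  have iv : ∀ z', U.τ z' ∈ U.lsub W1 → band (Nat.beq (U.let z).ni (U.let z').ni)
      (xor (U.let z).inv (U.let z').inv) = true → U.τ z ∈ U.lsub W1 := fun z' h1 h2 =>
    U.inv_letter h2 ▸ inv_mem h1
  by_cases h : z < 17
  · interval_cases z
    exacts [(upz1 ▸ k _ : U.τ 1 ∈ _), upz1 ▸ k _, iv _ (upz1 ▸ k _) rfl, upz3 ▸ k _,
      iv _ (upz3 ▸ k _) rfl, upz5 ▸ k _, iv _ (upz5 ▸ k _) rfl, upz7 ▸ k _, iv _ (upz7 ▸ k _) rfl,
      upz9 ▸ k _, iv _ (upz9 ▸ k _) rfl, upz11 ▸ k _, iv _ (upz11 ▸ k _) rfl, upz13 ▸ k _,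
      iv _ (upz13 ▸ k _) rfl, upz15 ▸ k _, iv _ (upz15 ▸ k _) rfl]
  · have e : U.let z = U.let 1 := by
      rw [Tab.let, nth_eq, List.getD_eq_default _ _ (not_lt.mp h)]; rfl
    have : U.τ z = U.τ 1 := by simp only [Tab.τ, Tab.sn, e]
    exact this ▸ upz1 ▸ k _

theorem fixD {c : ℕ} (hc : c < 22880) (h : ∀ w ∈ Yw, evA U.τ w c = c) : c ∈ Dl := by
  obtain ⟨M, h1, h2⟩ := tb_lor_list _ _ ((sub_iff _ _).mp cFix c (by simp [tb_ones, hc]))
  rcases List.mem_cons.mp h1 with rfl | h1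
  · obtain ⟨M, h1, h2⟩ := tb_lor_list _ _ h2
    obtain ⟨p, hp, rfl⟩ := List.mem_map.mp h1
    rw [tb_shl_one, decide_eq_true_eq] at h2
    exact h2 ▸ hp
  · obtain ⟨w, hw, rfl⟩ := List.mem_map.mp h1
    obtain ⟨M, h1, h2⟩ := tb_lor_list _ _ h2
    rw [lmap_eq] at h1
    obtain ⟨x, -, rfl⟩ := List.mem_map.mp h1
    have := hU.tb_pushL w x c
    rw [h w hw] at this
    simp [tb_xor, this] at h2

theorem yrel : ∀ u ∈ Yw, evA U.τ u ^ 3 = 1 ∧ ∀ w ∈ Yw, evA U.τ u * evA U.τ w = evA U.τ w * evA U.τ u := by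
  have k3 : ∀ i < 5, evA U.τ (Yw.getD i []) ^ 3 = 1 := fun i hi => by
    have : U.rel 15 (Yw.getD i [] ++ Yw.getD i [] ++ Yw.getD i []) 0 15 = true := by
      interval_cases i
      exacts [y3_0, y3_1, y3_2, y3_3, y3_4]
    simpa only [evA_append, pow_three] using hU.one this
  have kc : ∀ i < 5, ∀ j < i, Commute (evA U.τ (Yw.getD i [])) (evA U.τ (Yw.getD j [])) :=
    fun i hi j hj => by
      have : U.rel 15 (cw j i) 0 15 = true := by
        interval_cases i <;> interval_cases j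
        exacts [yc_10, yc_20, yc_21, yc_30, yc_31, yc_32, yc_40, yc_41, yc_42, yc_43]
      have h := hU.one this
      have h1 := k3 i hi
      have h2 := k3 j (hj.trans hi)
      simp only [cw, evA_append] at h
      generalize evA U.τ (Yw.getD i []) = b at *
      generalize evA U.τ (Yw.getD j []) = a at *
      rw [pow_three'] at h1 h2
      rw [mul_assoc (b * b) a a, eq_inv_of_mul_eq_one_left h1, eq_inv_of_mul_eq_one_left h2] at h
      calc b * a = a * b * (b⁻¹ * a⁻¹ * b * a) := by group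
        _ = a * b := by rw [h, mul_one]
  intro u hu
  obtain ⟨i, hi, rfl⟩ := List.getElem_of_mem hu
  rw [← List.getD_eq_getElem _ [] hi]
  refine ⟨k3 i hi, fun w hw => ?_⟩
  obtain ⟨j, hj, rfl⟩ := List.getElem_of_mem hw
  rw [← List.getD_eq_getElem _ [] hj]
  rcases lt_trichotomy i j with h | rfl | h
  exacts [(kc j hj i h).symm, rfl, kc i hi j h]

section
variable {G : Type*} [Group G] (ψ : G →* Perm ℕ)

/-- pointwise stabiliser -/
def Fx (l : List ℕ) : Subgroup G where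
  carrier := {g | ∀ p ∈ l, ψ g p = p}
  one_mem' := by simp
  mul_mem' := fun ha hb p hp => by rw [map_mul, Perm.mul_apply, hb p hp, ha p hp]
  inv_mem' := fun ha p hp => by rw [map_inv, Perm.inv_eq_iff_eq, ha p hp]

/-- the element with a given word -/
noncomputable def wG (w : List ℕ) : G := Function.invFun ψ (evA U.τ w)

def lb (q : GolayPt) : ℕ := lab.getD (Gol.idx q) 0

theorem lbF : (∀ q ∈ Gol.toF 340830, lb q ∈ Dl ∧ ∀ q' ∈ Gol.toF 340830, lb q = lb q' → q = q') ∧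
    (∀ p ∈ Dl, ∃ q ∈ Gol.toF 340830, lb q = p) ∧
    (∀ q, q ∈ Gol.toF 340830 ↔ q ∈ Gol.toF 340831 ∧ q ≠ Gol.pt 0) ∧
    Gol.toF 340831 = Cfsg.Spor.squareDodecad := by decide +kernel

theorem stD {π : M24} (h : π ∈ Gol.St 1 [340831]) {q : GolayPt} (hq : q ∈ Gol.toF 340830) :
    π • q ∈ Gol.toF 340830 := by
  rw [lbF.2.2.1] at hq ⊢
  exact ⟨h.2 340831 (by simp) ▸ Finset.smul_mem_smul_finset hq.1, fun e => hq.2
    (MulAction.injective π (e.trans (h.1 _ (by simp [Gol.toF_1])).symm))⟩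

/-- pairs acting in the same way on the eleven points -/
def Lm : Subgroup (M24 × G) where
  carrier := {p | p.1 ∈ Gol.St 1 [340831] ∧ ∀ q ∈ Gol.toF 340830, ψ p.2 (lb q) = lb (p.1 • q)}
  one_mem' := ⟨one_mem _, by simp⟩
  mul_mem' := fun {a b} ha hb => ⟨mul_mem ha.1 hb.1, fun q hq => by
    rw [Prod.snd_mul, map_mul, Perm.mul_apply, hb.2 q hq, ha.2 _ (stD hb.1 hq), Prod.fst_mul, mul_smul]⟩
  inv_mem' := fun {a} ha => ⟨inv_mem ha.1, fun q hq => by
    rw [Prod.snd_inv, map_inv, Perm.inv_eq_iff_eq, Prod.fst_inv, ha.2 _ (stD (inv_mem ha.1) hq),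
      smul_inv_smul]⟩

variable {ψ}

theorem Lm_T {n : G} (h : n ∈ Fx ψ Dl) : ((1 : M24), n) ∈ Lm ψ :=
  ⟨one_mem _, fun q hq => h _ (lbF.1 q hq).1⟩

theorem Lm_one {π : M24} {n : G} (m : (π, n) ∈ Lm ψ) : π = 1 ↔ n ∈ Fx ψ Dl := by
  refine ⟨fun e p hp => ?_, fun h => ?_⟩
  · obtain ⟨q, hq, rfl⟩ := lbF.2.1 p hp
    simpa [e] using m.2 q hq
  · refine (Gol.refn_sound (f := 340831) (E := []) (steps := [([5279, 69395], []), ([5279], []),
      ([69395], []), ([10558], []), ([18147], []), ([36294], []), ([133817], []), ([525274], []),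
      ([1050548], []), ([2101096], []), ([4196943], []), ([], [])]) (by decide +kernel)).le
      ⟨fun q hq => ?_, by simp⟩
    by_cases e : q = Gol.pt 0
    · exact m.1.1 q (by simp [Gol.toF_1, e])
    · have hq' := (lbF.2.2.1 q).2 ⟨hq, e⟩
      exact (lbF.1 _ (stD m.1 hq')).2 _ hq' ((m.2 q hq').symm.trans (h _ (lbF.1 q hq').1))

variable [Finite G]

theorem Lm_N {π : M24} {n : G} (m : (π, n) ∈ Lm ψ) : n ∈ normalizer (Fx ψ Dl : Set G) :=
  PLoc.mem_normalizer_of_conj_mem fun t ht p hp => by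
    obtain ⟨q, hq, rfl⟩ := lbF.2.1 p hp
    have := (inv_mem m).2 q hq
    rw [map_mul, map_mul, Perm.mul_apply, Perm.mul_apply, show ψ n⁻¹ (lb q) = _ from this,
      ht _ (lbF.1 _ (stD (inv_mem m).1 hq)).1, ← this, ← Perm.mul_apply, ← map_mul]
    simp

variable (i : Function.Injective ψ) (r : ψ.range = U.lsub W1)
include r

omit [Finite G] in
theorem wG_eq (w : List ℕ) : ψ (wG ψ w) = evA U.τ w :=
  Function.invFun_eq (r.ge (evA_mem _ _ _ fun z _ => tau_mem z))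

omit [Finite G] in
theorem lev_fix {W : List (List ℕ)} {l gl : List ℕ} {p s : ℕ} (h : lev W l p gl s = true) :
    ∀ w ∈ W, wG ψ w ∈ Fx ψ l := fun w hw q hq => by
  simp only [lev, band_eq, Bool.and_eq_true, lall_iff] at h
  rw [wG_eq r, hU.sends (h.1 w hw q hq)]

omit [Finite G] in
theorem MW_mem : ∀ x ∈ MW, (Gol.pm x.2, wG ψ x.1) ∈ Lm ψ := fun x hx => by
  obtain ⟨h1, h2, h3, h4⟩ := cMW x hx
  refine ⟨⟨fun q hq => ?_, by simp [Gol.pm_smul h1, h3]⟩, fun q hq => ?_⟩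
  · rw [Gol.toF_1, Finset.mem_singleton] at hq
    rw [hq, Gol.pm_pt h1 (by omega), h2]
  · rw [lbF.2.2.1] at hq
    have := hU.sends (h4 _ (Gol.idx_lt q) (fun e => hq.2 (by rw [← e, Gol.pt_idx])) (Gol.mem_toF.mp hq.1))
    rw [wG_eq r, Gol.pm_smul_pt h1, lb, this, lb, Gol.idx_pt (Gol.okP_lt (Gol.inM_ok h1) (Gol.idx_lt q))]

include i

theorem step {W : List (List ℕ)} {l gl : List ℕ} {p s : ℕ} (h : lev W l p gl s = true)
    {A : Subgroup G} (hW : ∀ w ∈ W, wG ψ w ∈ A) :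
    s * Nat.card (A ⊓ Fx ψ (p :: l) : Subgroup G) ≤ Nat.card (A ⊓ Fx ψ l : Subgroup G) := by
  have h1 := lev_fix r h
  simp only [lev, band_eq, Bool.and_eq_true] at h
  have h2 := ((Reach.base _ p).growI hU gl).mono (Tab.lsub_le (A := (A ⊓ Fx ψ l).map ψ)
    fun w hw => ⟨_, ⟨hW w hw, h1 w hw⟩, wG_eq r w⟩)
  have h3 := Set.ncard_le_ncard (s := {c | Nat.testBit _ c = true}) h2
    ((Set.finite_range fun g : G => ψ g p).subset (by rintro _ ⟨_, ⟨g, -, rfl⟩, rfl⟩; exact ⟨g, rfl⟩))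
  have h4 := dvd_card_step (A := (A ⊓ Fx ψ l).map ψ) (B := (A ⊓ Fx ψ (p :: l)).map ψ)
    (map_mono (inf_le_inf_left _ fun g hg q hq => hg q (List.mem_cons_of_mem _ hq))) (p := p)
    (by rintro _ ⟨g, hg, rfl⟩; exact hg.2 p List.mem_cons_self) rfl dvd_rfl
  rw [card_map_of_injective i, card_map_of_injective i] at h4
  rw [sizeOk_sound h.2] at h3
  exact (Nat.mul_le_mul_right _ h3).trans (Nat.le_of_dvd Nat.card_pos h4)

theorem card_N (c : Nat.card G = 448345497600) :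
    Nat.card (normalizer (Fx ψ Dl : Set G)) ≤ 7920 * 243 := by
  have h1 := step i r lv1 (A := ⊤) (by simp)
  have h2 := step i r lv2 (A := ⊤) (by simp)
  have h3 := step i r lv3 (A := ⊤) (by simp)
  have h4 : Nat.card (⊤ ⊓ Fx ψ [] : Subgroup G) ≤ Nat.card G := card_le_card_group _
  have nD : ∀ n ∈ normalizer (Fx ψ Dl : Set G), ∀ p ∈ Dl, ψ n p ∈ Dl := fun n hn p hp =>
    fixD (FixFrom.lt (hfix (eG.ge (r.le ⟨n, rfl⟩))) (by revert p; decide)) fun w hw => by
      have := (mem_normalizer_iff''.mp hn _).mp (lev_fix r lvA w hw) p hp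
      rwa [map_mul, map_mul, Perm.mul_apply, Perm.mul_apply, map_inv, Perm.inv_eq_iff_eq, wG_eq r] at this
  have h5 := card_le_orb (K := normalizer (Fx ψ Dl : Set G)) (S := ⊤ ⊓ Fx ψ [11163, 7122, 0])
    (fun g => (ψ g 11163, ψ g 7122, ψ g 0)) (O := Dl.flatMap fun a => (Dl.erase a).flatMap fun b =>
      ((Dl.erase a).erase b).map fun c => (a, b, c)) (fun x hx => by
      have k : ∀ {a b}, a ≠ b → ψ x a ≠ ψ x b := fun h => (ψ x).injective.ne h
      exact List.mem_flatMap.2 ⟨_, nD x hx _ (by decide), List.mem_flatMap.2 ⟨_,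
        (List.mem_erase_of_ne (k (by decide))).2 (nD x hx _ (by decide)), List.mem_map_of_mem
        ((List.mem_erase_of_ne (k (by decide))).2 ((List.mem_erase_of_ne (k (by decide))).2
          (nD x hx _ (by decide))))⟩⟩) fun x _ y _ e => ⟨mem_top _, fun p hp => by
      simp only [Prod.mk.injEq] at e
      rw [map_mul, map_inv, Perm.mul_apply, Perm.inv_eq_iff_eq]
      simp only [List.mem_cons, List.not_mem_nil, or_false] at hp
      rcases hp with rfl | rfl | rfl <;> simp [e]⟩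
  rw [show List.length _ = 990 by decide +kernel] at h5
  omega

theorem card_T (c : Nat.card G = 448345497600) : Nat.card (Fx ψ Dl) = 243 ∧
    Fx ψ Dl = HJ.clo (Yw.map (wG ψ)) ∧
    (Lm ψ).map (MonoidHom.snd M24 G) = normalizer (Fx ψ Dl : Set G) ∧
    Nat.card (normalizer (Fx ψ Dl : Set G)) = 7920 * 243 := by
  have k : ∀ W : List (List ℕ), (∀ w ∈ W, ∃ x ∈ MW, x.1 = w) →
      ∀ w ∈ W, wG ψ w ∈ (Lm ψ).map (MonoidHom.snd M24 G) := fun W h w hw => by
    obtain ⟨x, hx, rfl⟩ := h w hw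
    exact ⟨_, MW_mem r x hx, rfl⟩
  have h0 := step i r lw0 (k _ (by decide))
  have h1 := step i r lw1 (k _ (by decide))
  have h2 := step i r lw2 (k _ (by decide))
  have h3 := step i r lw3 (k _ (by decide))
  have h4 := step i r lvA (A := HJ.clo (Yw.map (wG ψ))) fun w hw => HJ.mem_clo (List.mem_map_of_mem hw)
  have l1 : (Lm ψ).map (MonoidHom.snd M24 G) ≤ normalizer (Fx ψ Dl : Set G) := by
    rintro _ ⟨p, hp, rfl⟩
    exact Lm_N hp
  have h5 := card_le_of_le l1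
  have h6 := card_N i r c
  have h7 := card_le_of_le (inf_le_left : (Lm ψ).map (MonoidHom.snd M24 G) ⊓ Fx ψ [] ≤ _)
  have h8 := card_le_of_le (show Fx ψ Dl ≤ (Lm ψ).map (MonoidHom.snd M24 G) ⊓ Fx ψ [15403, 11163, 7122, 0]
    from fun t ht => ⟨⟨_, Lm_T ht, rfl⟩, fun p hp => ht p (by revert p; decide)⟩)
  have h9 := card_le_of_le (inf_le_right : HJ.clo (Yw.map (wG ψ)) ⊓ Fx ψ Dl ≤ _)
  have p : 0 < Nat.card (HJ.clo (Yw.map (wG ψ)) ⊓ Fx ψ (1 :: Dl) : Subgroup G) := Nat.card_pos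
  refine ⟨by omega, le_antisymm (inf_eq_right.mp (eq_of_le_of_card_ge inf_le_right (by omega)))
    (HJ.clo_le fun x hx => ?_), eq_of_le_of_card_ge l1 (by omega), by omega⟩
  obtain ⟨w, hw, rfl⟩ := List.mem_map.mp hx
  exact lev_fix r lvA w hw

theorem good (c : Nat.card G = 448345497600) : IsElementaryAbelian 3 (Fx ψ Dl) ∧
    Nat.card (Fx ψ Dl) = 3 ^ 5 ∧ centralizer (Fx ψ Dl : Set G) = Fx ψ Dl ∧
    ∃ _ : ((Fx ψ Dl).subgroupOf (normalizer (Fx ψ Dl : Set G))).Normal,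
      Cfsg.Spor.IsoM11 (normalizer (Fx ψ Dl : Set G) ⧸
        (Fx ψ Dl).subgroupOf (normalizer (Fx ψ Dl : Set G))) := by
  obtain ⟨c1, e1, e2, c2⟩ := card_T i r c
  have ab : ∀ u ∈ Fx ψ Dl, ∀ w ∈ Fx ψ Dl, u * w = w * u := fun u hu w hw =>
    HJ.comm_clo (fun x hx => (HJ.comm_clo (fun y hy => by
      obtain ⟨a, ha, rfl⟩ := List.mem_map.mp hx
      obtain ⟨b, hb, rfl⟩ := List.mem_map.mp hy
      exact i (by simpa only [map_mul, wG_eq r] using (yrel b hb).2 a ha)) w (e1.le hw)).symm) u (e1.le hu)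
  have l1 : Fx ψ Dl ≤ centralizer (Fx ψ Dl : Set G) := fun u hu w hw => ab w hw u hu
  have ex : ∀ u ∈ Fx ψ Dl, u ^ 3 = 1 := fun u hu => by
    rw [e1] at hu
    induction hu using closure_induction with
    | mem x hx =>
      obtain ⟨a, ha, rfl⟩ := List.mem_map.mp hx
      exact i (by simpa only [map_pow, map_one, wG_eq r] using (yrel a ha).1)
    | one => simp
    | mul x y hx hy h1 h2 => rw [Commute.mul_pow (ab x (e1.ge hx) y (e1.ge hy)), h1, h2, one_mul]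
    | inv x _ h => rw [inv_pow, h, inv_one]
  have : ∀ n : normalizer (Fx ψ Dl : Set G), ∃ π : Gol.St 1 [340831], ((π : M24), (n : G)) ∈ Lm ψ :=
    fun n => by
      obtain ⟨p, hp, e⟩ := e2.ge n.2
      exact ⟨⟨p.1, hp.1⟩, e ▸ hp⟩
  choose F hF using this
  let f : normalizer (Fx ψ Dl : Set G) →* Gol.St 1 [340831] := MonoidHom.mk' F fun a b =>
    Subtype.ext (mul_inv_eq_one.mp ((Lm_one (mul_mem (hF (a * b))
      (inv_mem (mul_mem (hF a) (hF b))))).2
        (show (a : G) * b * ((a : G) * b)⁻¹ ∈ _ from mul_inv_cancel ((a : G) * b) ▸ one_mem _)))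
  have hk : f.ker = (Fx ψ Dl).subgroupOf _ := Subgroup.ext fun n =>
    Subtype.ext_iff.trans (Lm_one (hF n))
  have hs : Function.Surjective f := MonoidHom.range_eq_top.mp (eq_top_of_card_eq _ (by
    have := f.ker.index_mul_card
    rw [index_ker, hk, Nat.card_congr (subgroupOfEquivOfLe le_normalizer).toEquiv, c1, c2] at this
    rw [Gol.card_m11]
    omega))
  refine ⟨⟨⟨⟨fun a b => Subtype.ext (ab _ a.2 _ b.2)⟩⟩, ex⟩, c1, le_antisymm (fun u hu => ?_) l1,
    inferInstance, ⟨((QuotientGroup.quotientMulEquivOfEq hk.symm).trans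
      (QuotientGroup.quotientKerEquivOfSurjective f hs)).trans
      (((Gol.St 1 [340831]).equivMapOfInjective _ M24.subtype_injective).trans
        (MulEquiv.subgroupCongr ?_))⟩⟩
  · have := Gol.simple_m11
    rcases ((inferInstance : ((centralizer (Fx ψ Dl : Set G)).subgroupOf
      (normalizer (Fx ψ Dl : Set G))).Normal).map f hs).eq_bot_or_eq_top with h | h
    · exact hk.le (show (⟨u, centralizer_le_normalizer _ hu⟩ : normalizer (Fx ψ Dl : Set G)) ∈ f.ker from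
        h.le ⟨_, hu, rfl⟩)
    · have m := MW_mem r ([9, 16, 9, 16, 9, 13, 11, 16, 9, 1], 981967399443108749119423733699981408)
        (by decide)
      obtain ⟨v, h1, h2⟩ := h.ge (mem_top (f ⟨_, Lm_N m⟩))
      have h3 : v⁻¹ * ⟨_, Lm_N m⟩ ∈ f.ker := by simp [h2]
      have h4 := congrArg (ψ · 1) ((mul_mem_cancel_left (inv_mem h1)).mp (l1 (hk.le h3)) _
        (lev_fix r lvA (Yw.getD 0 []) (by decide)))
      simp only [map_mul, coe_subtype, wG_eq r, ← evA_append, hU.sends cNc.1, hU.sends cNc.2] at h4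
      omega
  · ext π
    simp only [Cfsg.Spor.M11, Cfsg.Spor.M12, mem_map, mem_inf, MulAction.mem_stabilizer_iff, Gol.mem_St,
      Gol.toF_1, ← lbF.2.2.2]
    simp only [Finset.mem_singleton, List.mem_singleton, forall_eq, show Gol.pt 0 = some 0 by decide +kernel]
    exact ⟨by rintro ⟨x, h, rfl⟩; exact ⟨⟨x.2, h.2⟩, h.1⟩,
      fun h => ⟨⟨π, h.1.1⟩, ⟨h.2, h.1.2⟩, rfl⟩⟩

end

end Cfsg.Agent.SZ
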