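/-
The subgroup of order three with quaternion commutator and the Sylow 3-subgroup.
-/
import Cfsg.Agent.SZ.G
import Cfsg.Agent.SZ.YD
import Cfsg.Agent.SZ.N

set_option autoImplicit false
set_option maxRecDepth 100000

namespace Cfsg.Agent.SZ

open HJ HX Subgroup PLoc

variable {G : Type*} [Group G] [Finite G] {z f g c h i j e d y x p k q r s b c' : G}
  {Q : Subgroup G} {Λ : Subgroup (ΓV × G)} {Δ Δ' : Subgroup (ΓQ × G)}

theorem B2.oy (B : B2 z f g c h i j e d y x Q Λ Δ) : orderOf y = 3 :=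
  orderOf_eq_prime B.y3 fun e1 => absurd (B.linj _ (e1 ▸ B.lam.2.2.1)) (by decide +kernel)

theorem B2.cy (B : B2 z f g c h i j e d y x Q Λ Δ) {t : G} (tz : t * z = z * t) (ot : orderOf t = 3)
    (h8 : Nat.card (⁅Q, zpowers t⁆ : Subgroup G) = 8) : ∃ m, m * t * m⁻¹ ∈ zpowers y := by
  classical
  obtain ⟨γ, hγ, m⟩ := B.lex tz
  have h1 := card_le_orb (K := Q) (S := Q ⊓ centralizer {t}) (fun u => u * t * u⁻¹ * t⁻¹)
    (O := (Set.toFinite (⁅Q, zpowers t⁆ : Subgroup G).carrier).toFinset.toList)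
    (fun u hu => by simpa [commutatorElement_def] using commutator_mem_commutator hu (mem_zpowers t))
    fun u hu v hv e1 => mem_inf.2 ⟨mul_mem (inv_mem hu) hv, mem_centralizer_singleton_iff.2
      (comm_of_cj (by rw [cj_mul', ← mul_right_cancel e1]; group))⟩
  rw [Finset.length_toList, ← Set.ncard_eq_toFinset_card, ← Nat.card_coe_set_eq,
    show Nat.card (⁅Q, zpowers t⁆ : Subgroup G).carrier = 8 from h8, B.card] at h1
  choose! u0 hu0 using fun u => B.lift (u := u)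
  have h2 := card_le_orb (K := Q ⊓ centralizer {t}) (S := zpowers z) (fun u => (u0 u).ap 0 % 64)
    (O := (List.range 64).filter fun v => γ.ap v == v) (fun u hu => List.mem_filter.2
      ⟨List.mem_range.2 (Nat.mod_lt _ (by omega)), beq_iff_eq.2
        (B.fix m (hu0 _ hu.1) (mem_centralizer_singleton_iff.1 hu.2).symm)⟩) fun u hu v hv e1 => by
      rcases B.act pm_one (hu0 _ hv.1) (hu0 _ hu.1)
        ((PC.ap_one (Nat.mod_lt _ (by omega))).trans e1.symm) with e2 | e2 <;>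
      simp only [one_mul, inv_one, mul_one] at e2 <;> simp [e2]
  rw [Nat.card_zpowers, orderOf_eq_prime (by rw [pow_two, B.z2]) B.z1] at h2
  have t3 : γ * γ * γ = 1 := B.linj.eq (by gm) pm_one (by rw [← pow_three', ← ot, pow_orderOf_eq_one])
  rcases fY B.cO γ hγ (fun v hv => by
    have : v < 64 := by revert v; decide
    rw [← PC.ap_mul _ _ (γ.ap_lt this), ← PC.ap_mul _ _ this, t3, PC.ap_one this]) (by omega)
    with rfl | e1
  · have := orderOf_dvd_natCard (⟨t, B.lker m⟩ : Q)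
    rw [← orderOf_coe, ot, B.card] at this
    omega
  obtain ⟨μ, h3, rfl⟩ := cls_of ky_eq e1
  obtain ⟨n, mn⟩ := B.ldown h3
  obtain ⟨v0, v, mv, e2⟩ := B.lq (t := n⁻¹ * t * n⁻¹⁻¹)
    (by simpa [mul_assoc] using pm_mul (pm_mul (pm_inv mn) m) mn) B.lam.2.2.1
  obtain ⟨a, -, h4⟩ := MX.conj_zp (p := 3) (by norm_num) (J := zpowers y ⊔ Q) (x := n⁻¹ * t * n⁻¹⁻¹)
    (e2 ▸ mul_mem_sup (mem_zpowers y) (B.mem mv).2) (mem_sup_left (mem_zpowers y))
    ((MulEquiv.orderOf_eq (MulAut.conj n⁻¹) t).trans ot) B.oy fun e3 => by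
      have := e3.trans (card_sup_dvd (zpowers_le.2
        (mem_normalizer_of_conj_mem (B.norm y (NN.c B.my)))))
      rw [Nat.card_zpowers, B.oy, B.card] at this
      omega
  exact ⟨a * n⁻¹, by rwa [cj_mul']⟩

theorem B7.idx (B : B7 z f g c h i j e d y x p k q r s b c' Q Λ Δ Δ') :
    (normalizer (zpowers y : Set G)).index ∣ 22880 := by
  obtain ⟨φ, hφ⟩ := B.iso
  obtain ⟨nf, ng, nc, -, -, -, nz, -, nd, ny, -⟩ := B.n
  have k : ∀ u, u * y * u⁻¹ = y ∨ u * y * u⁻¹ = y⁻¹ → u ∈ normalizer (zpowers y : Set G) := fun u hu =>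
    mem_normalizer_of_conj_mem (by
      rintro _ ⟨n, rfl⟩
      rw [← conj_zpow]
      rcases hu with e1 | e1 <;> simp [e1])
  rw [← Spor.Suz22880.act.index, ← index_map_equiv _ φ]
  refine index_dvd_of_le (map_le_iff_le_comap.2 (Spor.wsub_le fun w hw => k _ ?_))
  obtain ⟨n, hn, rfl⟩ := (by decide : ∀ w ∈ Spor.Suz22880.BW, ∃ n ∈ [0, 1, 2, 3, 5, 6], w = [2 * n]) w hw
  have n7 : n < 7 := by revert n; decide
  rw [Spor.ev_cons, Spor.ev_nil, mul_one, Spor.atm_two_mul _ n7, MonoidHom.coe_coe, hφ n n7]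
  simp only [List.mem_cons, List.not_mem_nil, or_false] at hn
  rcases hn with rfl | rfl | rfl | rfl | rfl | rfl <;> simp only [List.getD_cons_succ, List.getD_cons_zero]
  · exact Or.inl (B.hfn.eq (by gm) ny (by decide +kernel))
  · exact Or.inl (cj_of_comm B.by')
  · rcases B.hc with rfl | rfl <;> exact Or.inl (B.hfn.eq (by gm) ny (by decide +kernel))
  · exact Or.inr (B.hfn.eq (by gm) (by gm) (by decide +kernel))
  · exact Or.inl (B.hfn.eq (by gm) ny (by decide +kernel))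
  · exact Or.inl (B.hfn.eq (by gm) ny (by decide +kernel))

theorem good_in (φ : Cfsg.Spor.Suz ≃* G) (P : Sylow 3 G) : ∃ A : Subgroup G, A ≤ P ∧
    IsElementaryAbelian 3 A ∧ Nat.card A = 3 ^ 5 ∧ centralizer (A : Set G) = A ∧
    ∃ _ : (A.subgroupOf (normalizer (A : Set G))).Normal,
      Cfsg.Spor.IsoM11 (normalizer (A : Set G) ⧸ A.subgroupOf (normalizer (A : Set G))) := by
  have k := fun φ : G ≃* Cfsg.Spor.Suz => good (ψ := Spor.Suz22880.φ.comp φ.toMonoidHom)
    (Spor.SuzG.card_inj.2.comp φ.injective) (by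
      rw [MonoidHom.range_comp, MonoidHom.range_eq_top.mpr φ.surjective, ← MonoidHom.range_eq_map,
        Spor.Suz22880.range_φ, Spor.Suz22880.S.eG]) ((Nat.card_congr φ.toEquiv).trans Spor.SuzG.card)
  obtain ⟨R, hR⟩ := (IsPGroup.of_card (k φ.symm).2.1).exists_le_sylow
  obtain ⟨u, rfl⟩ := MulAction.exists_smul_eq G R P
  refine ⟨_, fun a ha => ?_, k ((MulAut.conj u⁻¹).trans φ.symm)⟩
  have : u⁻¹ * a * u⁻¹⁻¹ ∈ (R : Subgroup G) := hR ha
  rw [Sylow.coe_subgroup_smul, mem_pointwise_smul_iff_inv_smul_mem]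
  simpa using this

end Cfsg.Agent.SZ
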