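/-
Enumerated facts on `Ω₆⁻(2)`.
-/
import Cfsg.Agent.SZ.V

set_option autoImplicit false
set_option maxRecDepth 100000
set_option synthInstance.maxSize 4000

namespace Cfsg.Agent.SZ

open HJ HX Subgroup

def B6 : List ℕ := [1, 2, 4, 8, 16, 32]

/-- commutation tested on the basis -/
def Cm (x y : ΓV) : Prop := ∀ b ∈ B6, x.ap (y.ap b) = y.ap (x.ap b)
noncomputable instance (x y : ΓV) : Decidable (Cm x y) := by unfold Cm; infer_instance

theorem cm_of {x y : ΓV} (h : x * y = y * x) : Cm x y := fun b hb => by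
  have : b < 64 := by revert b; decide
  rw [← PC.ap_mul _ _ this, h, PC.ap_mul _ _ this]

theorem sq_of {x : ΓV} (h : x * x = 1) : ∀ b ∈ B6, x.ap (x.ap b) = b := fun b hb => by
  have : b < 64 := by revert b; decide
  rw [← PC.ap_mul _ _ this, h, PC.ap_one this]

def PO (x : ΓV) : Prop :=
  (Cm x xv → ∃ i < 5, x = xv ^ i) ∧
  ((∀ b ∈ B6, x.ap (x.ap b) = b) → (x = 1 ∨ x.c ∈ kr ∨ x.c ∈ ke) ∧
    (x.ap 1 = 1 → (x * xv) ^ 3 = 1 → ∃ i < 5, x = xv ^ i * env * (xv ^ i)⁻¹)) ∧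
  (Cm x yv → Cm x env → x = 1 ∨ x = rv ∨ x.ap 1 ≠ 1 ∧ (x = sv ∨ x = rv * sv)) ∧
  (x.ap 1 = 1 → x.ap 2 = 2 → x.ap 4 = 4 → x.ap 60 = 60 → x = 1 ∨ x = yv ∨ x = yv⁻¹)

noncomputable instance : DecidablePred PO := fun _ => by unfold PO; infer_instance

theorem PO_all : PC.allL (fun x => decide (PO x)) chO 1 = true := by decide +kernel

theorem fO (h : Nat.card (clo gO) = 25920) : ∀ x ∈ clo gO, PO x :=
  (PC.Enum.of chO_ok chO_mem (chO_len ▸ h.le)).all PO_all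

theorem kr_eq : (Wr.map fun l => (ev (atm gO) l * rv * (ev (atm gO) l)⁻¹).c) = kr := by
  decide +kernel
theorem ke_eq : (We.map fun l => (ev (atm gO) l * env * (ev (atm gO) l)⁻¹).c) = ke := by
  decide +kernel

theorem cls_of {w x : ΓV} {W : List (List ℕ)} {k : List ℕ}
    (e : (W.map fun l => (ev (atm gO) l * w * (ev (atm gO) l)⁻¹).c) = k) (h : x.c ∈ k) :
    ∃ m ∈ clo gO, x = m * w * m⁻¹ := by
  subst e
  obtain ⟨l, -, e⟩ := List.mem_map.mp h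
  exact ⟨_, ev_mem_clo gO l, PC.ext' e.symm⟩

theorem f27 : ∀ v < 64, v ≠ 0 → kS 0 v = false → ∃ l ∈ W27, (ev (atm gO) l).ap 1 = v := by
  decide +kernel

theorem memG : ∀ x ∈ [env, dv, yv, kv, h1v, h2v], x ∈ clo gO := list_mem (W := WG) (by decide +kernel)

theorem fG : xv = dv * env * yv ∧ wv = dv * rv * dv * sv ∧ sv = kv * rv * kv⁻¹ ∧ rv ≠ 1 := by
  decide +kernel

end Cfsg.Agent.SZ
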